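import Groth.Agent.Fano.K692.GoodG4

/-!
# The good part of `Sol13` is irreducible

`irr_good`: if `DDh T` (determinantal representations of hyperplane sections) and the space of frames of lines are
irreducible then so is the set of decompositions `T = h (u · d) + det (u; v; c)` with `h` not in the span of `u`.
-/

set_option autoImplicit false
set_option maxSynthPendingDepth 3
universe u

namespace K692.Good13

open K656.Trilin K714.Surf K714.Frames K714.Irr K713.PP Module LefPen Groth.Agent.Lefpen.H703.ZOpen K692.GoodLin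
  K692.GoodKer K692.GoodPoly K692.GoodExist

variable {k : Type u} [Field k] {T : (Fin 5 → k) →ₗ[k] (Fin 5 → k) →ₗ[k] (Fin 5 → k) →ₗ[k] k}

theorem A5_eq_zero [CharZero k] {q : Y4 k} (hq : q.1 ≠ 0) (d : Fin 3 → E k) :
    A5 q d = 0 ↔ ∀ x, ∑ i, q.2.1 i x * d i x = 0 := by
  constructor
  · intro h x
    refine quad_zero hq (fun x => ?_) x
    rw [← A5_diag, h]
    rfl
  · intro h
    refine (isSym3_A5 q d).ext_diag ⟨fun _ _ _ => rfl, fun _ _ _ => rfl⟩ fun x => ?_
    rw [A5_diag, h, mul_zero]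
    rfl

theorem A5_eq_iff [CharZero k] (hT : IsSym3 T) (q : Y4 k) (d : Fin 3 → E k) :
    A5 q d = y5 T q ↔ ∀ x, T x x x = q.1 x * ∑ i, q.2.1 i x * d i x +
      det3 (fun i => q.2.1 i x) (fun i => q.2.2.1 i x) (fun i => q.2.2.2 i x) := by
  constructor
  · intro h x
    have h1 := A5_diag q d x
    rw [h, y5_diag] at h1
    linear_combination h1
  · intro h
    refine (isSym3_A5 q d).ext_diag (isSym3_y5 hT q) fun x => ?_
    rw [A5_diag, y5_diag, h x]
    ring

theorem ne_zero_of_G4 {q : Y4 k} (hq : q ∈ G4 T) : q.1 ≠ 0 := by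
  obtain ⟨-, a, b, -, hhab, -⟩ := hq
  intro h0
  rw [h0] at hhab
  rcases hhab with h1 | h1
  · exact h1 rfl
  · exact h1 rfl

theorem notMem_span_of_G4 {q : Y4 k} (hq : q ∈ G4 T) : q.1 ∉ Submodule.span k (Set.range q.2.1) := by
  obtain ⟨-, a, b, -, hhab, hu⟩ := hq
  intro hmem
  have h1 : ∀ x, (∀ i, q.2.1 i x = 0) → q.1 x = 0 := by
    intro x hx
    refine Submodule.span_induction (p := fun (w : E k) _ => w x = 0) ?_ rfl ?_ ?_ hmem
    · rintro _ ⟨i, rfl⟩
      exact hx i
    · intro w w' _ _ hw hw'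
      rw [LinearMap.add_apply, hw, hw', add_zero]
    · intro c w _ hw
      rw [LinearMap.smul_apply, hw, smul_zero]
  rcases hhab with h2 | h2
  · exact h2 (h1 a fun i => (hu i).1)
  · exact h2 (h1 b fun i => (hu i).2)

/-- the common zeros of `u` -/
theorem finrank_ker_pi (u : Fin 3 → E k) :
    3 - finrank k ↥(LinearMap.range (LinearMap.pi u)) + 2 ≤ finrank k ↥(LinearMap.ker (LinearMap.pi u)) := by
  have h3 := LinearMap.finrank_range_add_finrank_ker (LinearMap.pi u)
  have h4 : finrank k (Fin 5 → k) = 5 := by simp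
  have h5 : finrank k ↥(LinearMap.range (LinearMap.pi u)) ≤ 3 := by
    have := Submodule.finrank_le (LinearMap.range (LinearMap.pi u))
    simpa using this
  omega

theorem range_pi_eq_top {u : Fin 3 → E k} (hu : LinearIndependent k u) : LinearMap.range (LinearMap.pi u) = ⊤ := by
  obtain ⟨f, hf⟩ := exists_dual hu
  rw [LinearMap.range_eq_top]
  intro w
  refine ⟨∑ j, w j • f j, funext fun i => ?_⟩
  rw [LinearMap.pi_apply, map_sum]
  simp [hf]

theorem linInd_of_range {u : Fin 3 → E k} (hu : ¬ LinearIndependent k u) :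
    finrank k ↥(LinearMap.range (LinearMap.pi u)) < 3 := by
  obtain ⟨g, hg, i₀, hi₀⟩ := Fintype.not_linearIndependent_iff.1 hu
  have hΦ : LinearMap.range (LinearMap.pi u) ≠ ⊤ := by
    intro ht
    obtain ⟨x, hx⟩ := (LinearMap.range_eq_top.1 ht) (Pi.single i₀ 1)
    have h1 : ∀ j, u j x = (Pi.single i₀ 1 : Fin 3 → k) j := fun j => congrFun hx j
    have h2 := LinearMap.congr_fun hg x
    simp only [LinearMap.sum_apply, LinearMap.smul_apply, smul_eq_mul, LinearMap.zero_apply, h1] at h2
    rw [Finset.sum_eq_single i₀ (fun j _ hj => by rw [Pi.single_eq_of_ne hj, mul_zero])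
      (fun hn => absurd (Finset.mem_univ _) hn), Pi.single_eq_same, mul_one] at h2
    exact hi₀ h2
  have h1 := Submodule.finrank_lt hΦ
  simpa using h1

theorem mem_ker_pi {u : Fin 3 → E k} {x : Fin 5 → k} : x ∈ LinearMap.ker (LinearMap.pi u) ↔ ∀ i, u i x = 0 := by
  rw [LinearMap.mem_ker]
  exact ⟨fun h i => congrFun h i, fun h => funext h⟩

/-- over `G4i` the last forms exist -/
theorem exists_d [CharZero k] (hT : IsSym3 T) {q : Y4 k} (hq : q ∈ G4i T) : y5 T q ∈ LinearMap.range (A5 q) := by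
  have hn := notMem_span_of_G4 hq.1
  have hG := hq.1.1
  obtain ⟨a, b, hab, -, hu⟩ := hq.1.2
  have hi : LinearIndependent k q.2.1 := hq.2
  have h1 : ∀ x, q.1 x = 0 → y5 T q x x x = 0 := by
    intro x hx
    rw [y5_diag, hG x hx, sub_self]
  have h2 : ∀ x, (∀ i, q.2.1 i x = 0) → y5 T q x x x = 0 := by
    intro x hx
    have hfin : finrank k ↥(LinearMap.ker (LinearMap.pi q.2.1)) = 2 := by
      have h3 := LinearMap.finrank_range_add_finrank_ker (LinearMap.pi q.2.1)
      rw [range_pi_eq_top hi, finrank_top] at h3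
      have h4 : finrank k (Fin 5 → k) = 5 := by simp
      have h5 : finrank k (Fin 3 → k) = 3 := by simp
      omega
    have hspan := finrank_span_eq_card hab.1
    rw [Matrix.range_cons, Matrix.range_cons, Matrix.range_empty, Set.union_empty,
      Set.singleton_union, Fintype.card_fin] at hspan
    have hle : Submodule.span k {a, b} ≤ LinearMap.ker (LinearMap.pi q.2.1) := by
      rw [Submodule.span_le]
      rintro _ (rfl | rfl)
      · exact mem_ker_pi.2 fun i => (hu i).1
      · exact mem_ker_pi.2 fun i => (hu i).2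
    have heq : Submodule.span k {a, b} = LinearMap.ker (LinearMap.pi q.2.1) :=
      Submodule.eq_of_le_of_finrank_eq hle (by rw [hfin]; exact hspan)
    have hx' : x ∈ Submodule.span k {a, b} := by
      rw [heq]
      exact mem_ker_pi.2 hx
    obtain ⟨s, t, rfl⟩ := Submodule.mem_span_pair.1 hx'
    rw [y5_diag, (T_span hT hab s t).1]
    simp only [hx, det3]
    ring
  obtain ⟨d, hd⟩ := exists_quot (isSym3_y5 hT q) (linearIndependent_finCons.2 ⟨hi, hn⟩) h1 h2
  refine ⟨d, (A5_eq_iff hT q d).2 fun x => ?_⟩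
  have h3 := hd x
  rw [y5_diag] at h3
  linear_combination h3

/-- with the last forms -/
def B5 (T : (Fin 5 → k) →ₗ[k] (Fin 5 → k) →ₗ[k] (Fin 5 → k) →ₗ[k] k) : Set (Y4 k × (Fin 3 → E k)) :=
  {p | p.1 ∈ G4i T ∧ A5 p.1 p.2 = y5 T p.1}

theorem irr_B5 [IsAlgClosed k] [CharZero k] (hT : IsSym3 T) (hsm : SmoothOn T ⊤) (hD : Irr k (DDh T))
    (hF : Irr k (FR T)) : Irr k (B5 T) := by
  have hinf : Infinite k := IsAlgClosed.instInfinite
  exact (irr_G4i hT hsm hD hF).of_linear A5 pm_A5 (y5 T) pm_y5 12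
    (fun q hq => finrank_koszul hq.2 (A5 q) (A5_eq_zero (ne_zero_of_G4 hq.1))) (fun q hq => exists_d hT hq)

/-- the zeros of `u` are a line if `h` is not in the span of `u` -/
theorem mem_G4i [IsAlgClosed k] [CharZero k] (hT : IsSym3 T) (hsm : SmoothOn T ⊤) {h : E k}
    {u v c d : Fin 3 → E k} (hS : (h, u, v, c, d) ∈ Sol13 T) (hh : h ∉ Submodule.span k (Set.range u)) :
    ((h, u, v, c) : Y4 k) ∈ G4i T := by
  have hS' : ∀ x, T x x x = h x * ∑ i, u i x * d i x + det3 (fun i => u i x) (fun i => v i x) (fun i => c i x) := hS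
  have hV : finrank k (Fin 5 → k) = 5 := by simp
  have hT0 : ∀ x ∈ LinearMap.ker (LinearMap.pi u), T x x x = 0 := by
    intro x hx
    rw [mem_ker_pi] at hx
    rw [hS' x]
    simp only [hx, det3]
    simp
  have hle : finrank k ↥(LinearMap.ker (LinearMap.pi u)) ≤ 2 := by
    by_contra hcon
    push Not at hcon
    obtain ⟨f, hf⟩ := exists_linearIndependent_of_le_finrank (R := k) (n := 3) hcon
    have hf' : LinearIndependent k (fun i => (f i : Fin 5 → k)) :=
      hf.map' (LinearMap.ker (LinearMap.pi u)).subtype (Submodule.ker_subtype _)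
    refine K714.TypeConst.no_plane hT hV hsm (P := Submodule.span k (Set.range fun i => (f i : Fin 5 → k)))
      (by rw [finrank_span_eq_card hf', Fintype.card_fin]) fun x hx => hT0 x ?_
    have hle : Submodule.span k (Set.range fun i => (f i : Fin 5 → k)) ≤ LinearMap.ker (LinearMap.pi u) := by
      rw [Submodule.span_le]
      rintro _ ⟨i, rfl⟩
      exact (f i).2
    exact hle hx
  have hi : LinearIndependent k u := by
    by_contra hcon
    have h1 := linInd_of_range hcon
    have h2 := finrank_ker_pi u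
    omega
  have hfin : finrank k ↥(LinearMap.ker (LinearMap.pi u)) = 2 := by
    have := finrank_ker_pi u
    omega
  obtain ⟨a, b, hab⟩ := exists_frame hfin
  have hli : LinearIndependent k ![a, b] := by
    rw [linearIndependent_iff_card_eq_finrank_span, Set.finrank, Matrix.range_cons, Matrix.range_cons,
      Matrix.range_empty, Set.union_empty, Set.singleton_union, hab, hfin, Fintype.card_fin]
  have hFR : (a, b) ∈ FR T := (isLine_span_iff hT (p := (a, b)) hli).1 (by
    change IsLine T (Submodule.span k {a, b})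
    rw [hab]
    exact ⟨hfin, hT0⟩)
  have ha : a ∈ LinearMap.ker (LinearMap.pi u) := by rw [← hab]; exact Submodule.subset_span (by simp)
  have hb : b ∈ LinearMap.ker (LinearMap.pi u) := by rw [← hab]; exact Submodule.subset_span (by simp)
  refine ⟨⟨fun y hy => ?_, a, b, hFR, ?_, fun i => ⟨mem_ker_pi.1 ha i, mem_ker_pi.1 hb i⟩⟩, hi⟩
  · have hy' : h y = 0 := hy
    rw [hS' y, hy', zero_mul, zero_add]
  · by_contra hcon
    push Not at hcon
    apply hh
    refine mem_span_of_iInf_ker_le_ker fun x hx => ?_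
    have hx' : x ∈ Submodule.span k {a, b} := by
      rw [hab]
      exact mem_ker_pi.2 fun i => by simpa using (Submodule.mem_iInf _).1 hx i
    obtain ⟨s, t, rfl⟩ := Submodule.mem_span_pair.1 hx'
    rw [LinearMap.mem_ker, map_add, map_smul, map_smul]
    have h1 : h a = 0 := hcon.1
    have h2 : h b = 0 := hcon.2
    rw [h1, h2, smul_zero, smul_zero, add_zero]

/-- the target space -/
abbrev Z5 (k : Type u) [Field k] : Type u :=
  E k × (Fin 3 → E k) × (Fin 3 → E k) × (Fin 3 → E k) × (Fin 3 → E k)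

/-- the rearrangement -/
def rr : (Y4 k × (Fin 3 → E k)) →ₗ[k] Z5 k where
  toFun p := (p.1.1, p.1.2.1, p.1.2.2.1, p.1.2.2.2, p.2)
  map_add' _ _ := rfl
  map_smul' _ _ := rfl

theorem rr_mem [CharZero k] (hT : IsSym3 T) {p : Y4 k × (Fin 3 → E k)} (hp : p ∈ B5 T) :
    rr p ∈ Sol13 T ∧ (rr p).1 ∉ Submodule.span k (Set.range (rr p).2.1) := by
  obtain ⟨hG, hA⟩ := hp
  exact ⟨(A5_eq_iff hT p.1 p.2).1 hA, notMem_span_of_G4 hG.1⟩

theorem exists_rr [IsAlgClosed k] [CharZero k] (hT : IsSym3 T) (hsm : SmoothOn T ⊤) {q : Z5 k} (hS : q ∈ Sol13 T)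
    (hh : q.1 ∉ Submodule.span k (Set.range q.2.1)) : ∃ p ∈ B5 T, rr p = q := by
  obtain ⟨h, u, v, c, d⟩ := q
  exact ⟨((h, u, v, c), d), ⟨mem_G4i hT hsm hS hh, (A5_eq_iff hT (h, u, v, c) d).2 hS⟩, rfl⟩

/-- **The good part of `Sol13` is irreducible.** -/
theorem irr_good [IsAlgClosed k] [CharZero k] (hT : IsSym3 T) (hsm : SmoothOn T ⊤) (hD : Irr k (DDh T))
    (hF : Irr k (FR T)) : Irr k {q | q ∈ Sol13 T ∧ q.1 ∉ Submodule.span k (Set.range q.2.1)} := by
  have h := (irr_B5 hT hsm hD hF).image (isPolyMap_linear (rr (k := k)))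
  have he : (rr (k := k)) '' (B5 T) = {q : Z5 k | q ∈ Sol13 T ∧ q.1 ∉ Submodule.span k (Set.range q.2.1)} := by
    refine Set.Subset.antisymm ?_ ?_
    · rintro _ ⟨p, hp, rfl⟩
      exact rr_mem hT hp
    · rintro q ⟨hS, hh⟩
      exact exists_rr hT hsm hS hh
  rw [he] at h
  exact h

end K692.Good13
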