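import Groth.Agent.Cubic.K656.Trilin
import Groth.Agent.Fano.K714.Surf
import Mathlib.LinearAlgebra.Dual.Lemmas
import Mathlib.LinearAlgebra.Matrix.Determinant.Basic
import Mathlib.LinearAlgebra.Matrix.ToLinearEquiv

/-!
# Linear algebra for the good part of `Sol13`

* `exists_dual5`: coordinates adapted to four independent linear forms on `k^5`;
* `symm3`: symmetrization of a trilinear form;
* `exists_quot`: a cubic form vanishing on `{h = 0}` and on `{u = 0}` is `h * (u · d)`;
* `finrank_koszul`: the relations `u · d = 0` are the three Koszul relations;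
* `left_ker`: the value `N(z)` of a determinantal representation at a smooth point has corank one.
-/

set_option autoImplicit false
universe u

namespace K692.GoodLin

open K656.Trilin K714.Surf Module

variable {k : Type u} [Field k]

/-- adapted coordinates -/
theorem exists_dual5 {φ : Fin 4 → Dual k (Fin 5 → k)} (hφ : LinearIndependent k φ) :
    ∃ (f : Fin 4 → Fin 5 → k) (w : Dual k (Fin 5 → k)) (g : Fin 5 → k),
      (∀ i j, φ i (f j) = if i = j then 1 else 0) ∧ (∀ j, w (f j) = 0) ∧ (∀ i, φ i g = 0) ∧ w g = 1 ∧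
        ∀ x, x = ∑ i, φ i x • f i + w x • g := by
  classical
  have h5 : finrank k (Dual k (Fin 5 → k)) = 5 := by
    rw [Subspace.dual_finrank_eq]; simp
  obtain ⟨w, hw⟩ := exists_linearIndependent_snoc_of_lt_finrank hφ (by rw [h5]; norm_num)
  let b := basisOfLinearIndependentOfCardEqFinrank hw (by rw [h5]; simp)
  have hb : ∀ i, b i = Fin.snoc (α := fun _ => Dual k (Fin 5 → k)) φ w i := fun i => by
    simp only [b, coe_basisOfLinearIndependentOfCardEqFinrank]
  let f : Fin 5 → Fin 5 → k := fun j => (evalEquiv k (Fin 5 → k)).symm (b.dualBasis j)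
  have hf : ∀ i j, b i (f j) = if i = j then 1 else 0 := by
    intro i j
    have h1 : (evalEquiv k (Fin 5 → k)) (f j) (b i) = b i (f j) := rfl
    rw [← h1, LinearEquiv.apply_symm_apply, Basis.dualBasis_apply_self]
  have hx : ∀ x, x = ∑ i, b i x • f i := by
    intro x
    rw [← sub_eq_zero, ← forall_dual_apply_eq_zero_iff k]
    intro l
    rw [← b.sum_repr l, LinearMap.sum_apply]
    refine Finset.sum_eq_zero fun i _ => ?_
    rw [LinearMap.smul_apply, map_sub, map_sum]
    simp only [map_smul, hf, smul_eq_mul, mul_ite, mul_one, mul_zero, Finset.sum_ite_eq, Finset.mem_univ,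
      if_true, sub_self]
  refine ⟨fun j => f j.castSucc, w, f (Fin.last 4), ?_, ?_, ?_, ?_, ?_⟩
  · intro i j
    have := hf i.castSucc j.castSucc
    rw [hb, Fin.snoc_castSucc] at this
    rw [this]
    simp
  · intro j
    have := hf (Fin.last 4) j.castSucc
    rw [hb, Fin.snoc_last] at this
    rw [this, if_neg]
    exact (Fin.castSucc_lt_last j).ne'
  · intro i
    have := hf i.castSucc (Fin.last 4)
    rw [hb, Fin.snoc_castSucc] at this
    rw [this, if_neg]
    exact (Fin.castSucc_lt_last i).ne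
  · have := hf (Fin.last 4) (Fin.last 4)
    rw [hb, Fin.snoc_last] at this
    rw [this, if_pos rfl]
  · intro x
    conv_lhs => rw [hx x, Fin.sum_univ_castSucc]
    simp only [hb, Fin.snoc_castSucc, Fin.snoc_last]

/-! ### symmetrization -/

section Symm

variable {V : Type u} [AddCommGroup V] [Module k V]

/-- exchange the last two arguments -/
def fl (D : V →ₗ[k] V →ₗ[k] V →ₗ[k] k) : V →ₗ[k] V →ₗ[k] V →ₗ[k] k where
  toFun x := (D x).flip
  map_add' x y := by ext; simp
  map_smul' c x := by ext; simp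

theorem fl_apply (D : V →ₗ[k] V →ₗ[k] V →ₗ[k] k) (x y z : V) : fl D x y z = D x z y := rfl

/-- Symmetrization of a trilinear form. -/
noncomputable def symm3 (D : V →ₗ[k] V →ₗ[k] V →ₗ[k] k) : V →ₗ[k] V →ₗ[k] V →ₗ[k] k :=
  (6 : k)⁻¹ • (D + D.flip + fl D + (fl D).flip + fl D.flip + (fl D.flip).flip)

theorem symm3_apply (D : V →ₗ[k] V →ₗ[k] V →ₗ[k] k) (x y z : V) :
    symm3 D x y z = (6 : k)⁻¹ * (D x y z + D y x z + D x z y + D y z x + D z x y + D z y x) := by
  simp only [symm3, LinearMap.smul_apply, LinearMap.add_apply, LinearMap.flip_apply, fl_apply, smul_eq_mul]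

theorem isSym3_symm3 (D : V →ₗ[k] V →ₗ[k] V →ₗ[k] k) : IsSym3 (symm3 D) where
  s12 x y z := by simp only [symm3_apply]; ring
  s23 x y z := by simp only [symm3_apply]; ring

theorem symm3_diag [CharZero k] (D : V →ₗ[k] V →ₗ[k] V →ₗ[k] k) (x : V) : symm3 D x x x = D x x x := by
  rw [symm3_apply]
  have h6 : (6 : k) ≠ 0 := by norm_num
  field_simp
  ring

/-- rank one trilinear form -/
noncomputable def rk1 (f g h : Dual k V) : V →ₗ[k] V →ₗ[k] V →ₗ[k] k := f.smulRight (g.smulRight h)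

theorem rk1_apply (f g h : Dual k V) (x y z : V) : rk1 f g h x y z = f x * (g y * h z) := by
  simp [rk1]

/-- the determinant as a trilinear form -/
noncomputable def detT (u v c : Fin 3 → Dual k V) : V →ₗ[k] V →ₗ[k] V →ₗ[k] k :=
  rk1 (u 0) (v 1) (c 2) + (-1 : k) • rk1 (u 0) (v 2) (c 1) + (-1 : k) • rk1 (u 1) (v 0) (c 2) +
    rk1 (u 1) (v 2) (c 0) + rk1 (u 2) (v 0) (c 1) + (-1 : k) • rk1 (u 2) (v 1) (c 0)

theorem detT_diag (u v c : Fin 3 → Dual k V) (x : V) : detT u v c x x x =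
    u 0 x * v 1 x * c 2 x - u 0 x * v 2 x * c 1 x - u 1 x * v 0 x * c 2 x + u 1 x * v 2 x * c 0 x +
      u 2 x * v 0 x * c 1 x - u 2 x * v 1 x * c 0 x := by
  simp only [detT, LinearMap.add_apply, LinearMap.smul_apply, smul_eq_mul, rk1_apply]
  ring

end Symm

/-! ### division -/

/-- A cubic form vanishing on `{h = 0}` and on `{u = 0}` is of the form `h * (u · d)`. -/
theorem exists_quot [CharZero k] {S : (Fin 5 → k) →ₗ[k] (Fin 5 → k) →ₗ[k] (Fin 5 → k) →ₗ[k] k} (hS : IsSym3 S)
    {h : Dual k (Fin 5 → k)} {u : Fin 3 → Dual k (Fin 5 → k)} (hi : LinearIndependent k (Fin.cons h u : Fin 4 → _))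
    (h1 : ∀ x, h x = 0 → S x x x = 0) (h2 : ∀ x, (∀ i, u i x = 0) → S x x x = 0) :
    ∃ d : Fin 3 → Dual k (Fin 5 → k), ∀ x, S x x x = h x * ∑ i, u i x * d i x := by
  obtain ⟨f, w, g, hf, hwf, hg, hwg, hx⟩ := exists_dual5 hi
  have hker : ∀ a b c : Fin 5 → k, h a = 0 → h b = 0 → h c = 0 → S a b c = 0 := fun a b c ha hb hc =>
    hS.eq_zero_of_diag (LinearMap.ker h) (fun x hx => h1 x hx) ha hb hc
  let Λ : Submodule k (Fin 5 → k) := ⨅ i, LinearMap.ker (u i)
  have hΛ : ∀ x, x ∈ Λ ↔ ∀ i, u i x = 0 := fun x => by simp [Λ, Submodule.mem_iInf]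
  have hker2 : ∀ a b c : Fin 5 → k, a ∈ Λ → b ∈ Λ → c ∈ Λ → S a b c = 0 := fun a b c ha hb hc =>
    hS.eq_zero_of_diag Λ (fun x hx => h2 x ((hΛ x).1 hx)) ha hb hc
  have hf0 : f 0 ∈ Λ := (hΛ _).2 fun i => by
    have := hf i.succ 0
    rw [Fin.cons_succ] at this
    rw [this, if_neg (Fin.succ_ne_zero i)]
  have hgΛ : g ∈ Λ := (hΛ _).2 fun i => by
    have := hg i.succ
    rwa [Fin.cons_succ] at this
  have hhg : h g = 0 := by
    have := hg 0
    rwa [Fin.cons_zero] at this
  have hhf : ∀ i : Fin 3, h (f i.succ) = 0 := fun i => by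
    have := hf 0 i.succ
    rw [Fin.cons_zero] at this
    rw [this, if_neg (Fin.succ_ne_zero i).symm]
  refine ⟨fun i => (3 * S (f 0) (f 0) (f i.succ)) • h + ∑ j : Fin 3, (3 * S (f 0) (f i.succ) (f j.succ)) • u j +
    (6 * S (f 0) (f i.succ) g) • w, fun x => ?_⟩
  have hx0 := hx x
  rw [Fin.sum_univ_succ] at hx0
  simp only [Fin.cons_zero, Fin.cons_succ] at hx0
  set Y : Fin 5 → k := ∑ i : Fin 3, u i x • f i.succ + w x • g with hY
  have hxY : x = h x • f 0 + Y := by
    rw [hY, ← add_assoc]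
    exact hx0
  have hYh : h Y = 0 := by
    rw [hY, map_add, map_sum]
    simp only [map_smul, hhf, hhg, smul_zero, Finset.sum_const_zero, add_zero]
  have e1 : S x x x = 3 * h x ^ 2 * S (f 0) (f 0) Y + 3 * h x * S (f 0) Y Y := by
    have h3 := hS.cube_smul_add_smul (f 0) Y (h x) 1
    rw [one_smul, ← hxY, hker2 _ _ _ hf0 hf0 hf0, hker Y Y Y hYh hYh hYh] at h3
    rw [h3]
    ring
  have e2 : S (f 0) (f 0) Y = ∑ i : Fin 3, u i x * S (f 0) (f 0) (f i.succ) := by
    rw [hY, map_add, map_sum, map_smul, hker2 _ _ _ hf0 hf0 hgΛ, smul_zero, add_zero]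
    simp only [map_smul, smul_eq_mul]
  have e3 : S (f 0) Y Y = ∑ i : Fin 3, ∑ j : Fin 3, u i x * u j x * S (f 0) (f i.succ) (f j.succ) +
      2 * w x * ∑ i : Fin 3, u i x * S (f 0) (f i.succ) g := by
    have h3 : ∀ i : Fin 3, S (f 0) g (f i.succ) = S (f 0) (f i.succ) g := fun i => hS.s23 _ _ _
    rw [hY]
    simp only [map_add, map_sum, map_smul, LinearMap.add_apply, LinearMap.sum_apply, LinearMap.smul_apply, smul_eq_mul,
      h3, hker2 _ _ _ hf0 hgΛ hgΛ, Fin.sum_univ_three]
    ring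
  rw [e1, e2, e3]
  simp only [LinearMap.add_apply, LinearMap.sum_apply, LinearMap.smul_apply, smul_eq_mul, Fin.sum_univ_three]
  ring

end K692.GoodLin
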