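import Groth.Agent.Fano.K714.Frames
import Groth.Agent.Fano.K692.GoodLin

/-!
# Kernels for the good part of `Sol13`

* `koszul`, `finrank_koszul`: the relations `u · d = 0` are the Koszul relations;
* `left_ker`: the value `N(z)` of a determinantal representation at a smooth point has a one-dimensional left kernel;
* `finrank_pair`: the linear system `λ N(a) + h(a) e = 0 = λ N(b) + h(b) e` has rank five.
-/

set_option autoImplicit false
universe u

namespace K692.GoodKer

open K656.Trilin K714.Surf K714.Frames Module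

variable {k : Type u} [Field k]

/-! ### Koszul relations -/

/-- dual vectors of independent linear forms -/
theorem exists_dual {n : ℕ} {V : Type u} [AddCommGroup V] [Module k V] [FiniteDimensional k V] {φ : Fin n → Dual k V}
    (hφ : LinearIndependent k φ) : ∃ f : Fin n → V, ∀ i j, φ i (f j) = if i = j then 1 else 0 := by
  classical
  let P := Submodule.span k (Set.range φ)
  let b : Basis (Fin n) k ↥P := Basis.span hφ
  have hb : ∀ i, ((b i : ↥P) : Dual k V) = φ i := fun i => congrArg Subtype.val (Basis.span_apply hφ i)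
  -- extend the coordinate functionals
  have h1 : ∀ j, ∃ g : Dual k (Dual k V), ∀ x : ↥P, g (x : Dual k V) = b.coord j x := fun j => by
    obtain ⟨g, hg⟩ := LinearMap.exists_extend (b.coord j)
    exact ⟨g, fun x => by rw [← hg]; rfl⟩
  choose g hg using h1
  refine ⟨fun j => (evalEquiv k V).symm (g j), fun i j => ?_⟩
  have h2 : (evalEquiv k V) ((evalEquiv k V).symm (g j)) (φ i) = φ i ((evalEquiv k V).symm (g j)) := rfl
  rw [← h2, LinearEquiv.apply_symm_apply, ← hb i, hg, Basis.coord_apply, Basis.repr_self, Finsupp.single_apply]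

section Koszul

variable {u : Fin 3 → Dual k (Fin 5 → k)}

/-- The Koszul relations. -/
def kos (u : Fin 3 → Dual k (Fin 5 → k)) : (k × k × k) →ₗ[k] (Fin 3 → Dual k (Fin 5 → k)) where
  toFun c := ![c.1 • u 1 + c.2.1 • u 2, (-c.1) • u 0 + c.2.2 • u 2, (-c.2.1) • u 0 + (-c.2.2) • u 1]
  map_add' x y := by
    funext i
    fin_cases i <;> simp <;> module
  map_smul' c x := by
    funext i
    fin_cases i <;> simp <;> module

theorem kos_rel (c : k × k × k) (x : Fin 5 → k) : ∑ i, u i x * kos u c i x = 0 := by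
  simp only [Fin.sum_univ_three, kos, LinearMap.coe_mk, AddHom.coe_mk, Matrix.cons_val_zero, Matrix.cons_val_one,
    Matrix.cons_val, LinearMap.add_apply, LinearMap.smul_apply, smul_eq_mul]
  ring

theorem koszul {f : Fin 3 → Fin 5 → k} (hf : ∀ i j, u i (f j) = if i = j then 1 else 0)
    {d : Fin 3 → Dual k (Fin 5 → k)} (hd : ∀ x, ∑ i, u i x * d i x = 0) : ∃ c, kos u c = d := by
  have hB : ∀ x y, ∑ i, (u i x * d i y + u i y * d i x) = 0 := by
    intro x y
    have h1 := hd (x + y)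
    have h2 := hd x
    have h3 := hd y
    simp only [Fin.sum_univ_three, map_add] at h1 h2 h3 ⊢
    linear_combination h1 - h2 - h3
  have h00 := hd (f 0)
  have h11 := hd (f 1)
  have h22 := hd (f 2)
  have h01 := hB (f 0) (f 1)
  have h02 := hB (f 0) (f 2)
  have h12 := hB (f 1) (f 2)
  simp only [Fin.sum_univ_three, hf] at h00 h11 h22 h01 h02 h12
  simp at h00 h11 h22 h01 h02 h12
  refine ⟨(-(d 1 (f 0)), -(d 2 (f 0)), -(d 2 (f 1))), ?_⟩
  funext i
  refine LinearMap.ext fun y => ?_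
  have h0 := hB (f 0) y
  have h1 := hB (f 1) y
  have h2 := hB (f 2) y
  simp only [Fin.sum_univ_three, hf] at h0 h1 h2
  simp at h0 h1 h2
  fin_cases i
  · simp [kos]
    linear_combination (-1 : k) * h0 + u 0 y * h00
  · simp [kos]
    linear_combination (-1 : k) * h1 + u 1 y * h11 + u 0 y * h01
  · simp [kos]
    linear_combination (-1 : k) * h2 + u 2 y * h22 + u 0 y * h02 + u 1 y * h12

theorem kos_injective {f : Fin 3 → Fin 5 → k} (hf : ∀ i j, u i (f j) = if i = j then 1 else 0) :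
    Function.Injective (kos u) := by
  rw [← LinearMap.ker_eq_bot, LinearMap.ker_eq_bot']
  rintro ⟨p, q, r⟩ h
  have h0 := congrFun h 0
  have h1 := congrFun h 1
  have a1 := LinearMap.congr_fun h0 (f 1)
  have a2 := LinearMap.congr_fun h0 (f 2)
  have a3 := LinearMap.congr_fun h1 (f 2)
  simp [kos, hf] at a1 a2 a3
  simp [a1, a2, a3]

/-- A linear map on `(Fin 3 → E)` whose kernel consists of the relations has rank twelve. -/
theorem finrank_koszul (hu : LinearIndependent k u) {W' : Type u} [AddCommGroup W'] [Module k W']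
    (A : (Fin 3 → Dual k (Fin 5 → k)) →ₗ[k] W') (hA : ∀ d, A d = 0 ↔ ∀ x, ∑ i, u i x * d i x = 0) :
    finrank k ↥(LinearMap.range A) = 12 := by
  obtain ⟨f, hf⟩ := exists_dual hu
  have h1 : LinearMap.ker A = LinearMap.range (kos u) := by
    ext d
    rw [LinearMap.mem_ker, hA]
    constructor
    · intro h
      obtain ⟨c, hc⟩ := koszul hf h
      exact ⟨c, hc⟩
    · rintro ⟨c, rfl⟩ x
      exact kos_rel c x
  have h2 := LinearMap.finrank_range_add_finrank_ker A
  rw [h1, LinearMap.finrank_range_of_inj (kos_injective hf)] at h2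
  have h3 : finrank k (Fin 3 → Dual k (Fin 5 → k)) = 15 := by
    rw [finrank_pi_fintype]
    simp [Subspace.dual_finrank_eq]
  have h4 : finrank k (k × k × k) = 3 := by simp
  omega

end Koszul

/-! ### the left kernel -/

variable {T : (Fin 5 → k) →ₗ[k] (Fin 5 → k) →ₗ[k] (Fin 5 → k) →ₗ[k] k}

/-- the row vector `λ N(x)` -/
def rv (N : Fin 3 → Fin 3 → Dual k (Fin 5 → k)) (l : Fin 3 → k) (x : Fin 5 → k) (j : Fin 3) : k := ∑ i, l i * N i j x

theorem det_rows {R : Type*} [CommRing R] (a b c : Fin 3 → R) : (Matrix.of ![a, b, c]).det =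
    a 0 * (b 1 * c 2 - b 2 * c 1) - a 1 * (b 0 * c 2 - b 2 * c 0) + a 2 * (b 0 * c 1 - b 1 * c 0) := by
  rw [Matrix.det_fin_three]
  simp
  ring

theorem mul_rows (N : Fin 3 → Fin 3 → Dual k (Fin 5 → k)) (a b c : Fin 3 → k) (x : Fin 5 → k) :
    (Matrix.of ![a, b, c]) * (Matrix.of fun i j => N i j x) = Matrix.of ![rv N a x, rv N b x, rv N c x] := by
  ext i j
  rw [Matrix.mul_apply]
  fin_cases i <;> simp [rv]

/-- Two independent left kernel vectors make the point singular. -/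
theorem tangent_of_two [CharZero k] (hT : IsSym3 T) {h : Dual k (Fin 5 → k)} {N : Fin 3 → Fin 3 → Dual k (Fin 5 → k)}
    (hN : ∀ x, h x = 0 → T x x x = (Matrix.of fun i j => N i j x).det) {z : Fin 5 → k} (hz : h z = 0)
    (hzz : T z z z = 0) {a b : Fin 3 → k} (hab : LinearIndependent k ![a, b]) (ha : ∀ j, rv N a z j = 0)
    (hb : ∀ j, rv N b z j = 0) {w : Fin 5 → k} (hw : h w = 0) : T z z w = 0 := by
  classical
  obtain ⟨p, hp⟩ := exists_linearIndependent_snoc_of_lt_finrank hab (by simp)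
  have hP : (Matrix.of ![a, b, p]).det ≠ 0 := by
    have he : (Fin.snoc (α := fun _ => Fin 3 → k) ![a, b] p : Fin 3 → Fin 3 → k) = ![a, b, p] := by
      funext i
      fin_cases i <;> rfl
    rw [he] at hp
    have h1 : LinearIndependent k (Matrix.of ![a, b, p]).row := hp
    exact ((Matrix.isUnit_iff_isUnit_det _).1 (Matrix.linearIndependent_rows_iff_isUnit.1 h1)).ne_zero
  have key : ∀ t : k, (Matrix.of ![a, b, p]).det * (3 * t * T z z w + 3 * t ^ 2 * T z w w + t ^ 3 * T w w w) =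
      t ^ 2 * ((rv N a w 0 * (rv N b w 1 * (rv N p z 2 + t * rv N p w 2) - rv N b w 2 * (rv N p z 1 + t * rv N p w 1)) -
        rv N a w 1 * (rv N b w 0 * (rv N p z 2 + t * rv N p w 2) - rv N b w 2 * (rv N p z 0 + t * rv N p w 0)) +
        rv N a w 2 * (rv N b w 0 * (rv N p z 1 + t * rv N p w 1) - rv N b w 1 * (rv N p z 0 + t * rv N p w 0)))) := by
    intro t
    have h1 : h (z + t • w) = 0 := by rw [map_add, map_smul, hz, hw]; simp
    have h2 := hN _ h1
    rw [hT.cube_add_smul, hzz] at h2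
    have h3 := congrArg Matrix.det (mul_rows N a b p (z + t • w))
    rw [Matrix.det_mul, ← h2, det_rows (rv N a (z + t • w))] at h3
    have h4 : ∀ (l : Fin 3 → k) (j : Fin 3), rv N l (z + t • w) j = rv N l z j + t * rv N l w j := by
      intro l j
      simp only [rv, map_add, map_smul, smul_eq_mul, mul_add, Finset.sum_add_distrib, Finset.mul_sum]
      congr 1
      exact Finset.sum_congr rfl fun i _ => by ring
    simp only [h4, ha, hb] at h3
    linear_combination h3
  have k1 := key 1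
  have k2 := key (-1)
  have k3 := key 2
  have h6 : (Matrix.of ![a, b, p]).det * T z z w = 0 := by
    have h18 : (18 : k) ≠ 0 := by norm_num
    refine mul_left_cancel₀ h18 ?_
    rw [mul_zero]
    linear_combination 6 * k1 - 2 * k2 - k3
  exact (mul_eq_zero.1 h6).resolve_left hP

theorem T_span (hT : IsSym3 T) {a b : Fin 5 → k} (hab : (a, b) ∈ FR T) (s t : k) :
    T (s • a + t • b) (s • a + t • b) (s • a + t • b) = 0 ∧ T (s • a + t • b) (s • a + t • b) a = 0 ∧
      T (s • a + t • b) (s • a + t • b) b = 0 := by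
  obtain ⟨-, h1, h2, h3, h4⟩ := hab
  dsimp only at h1 h2 h3 h4
  refine ⟨?_, ?_, ?_⟩
  · rw [hT.cube_smul_add_smul, h1, h2, h3, h4]
    ring
  · rw [hT.sq_smul_add_smul, h1, hT.s23 a b a, h2, hT.rot b b a, hT.rot b a b, h3]
    ring
  · rw [hT.sq_smul_add_smul, h2, h3, h4]
    ring

/-- The left kernel at the intersection point of the line with `{h = 0}`. -/
theorem left_ker [CharZero k] (hT : IsSym3 T) (hsm : SmoothOn T ⊤) {h : Dual k (Fin 5 → k)}
    {N : Fin 3 → Fin 3 → Dual k (Fin 5 → k)} (hN : ∀ x, h x = 0 → T x x x = (Matrix.of fun i j => N i j x).det)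
    {a b : Fin 5 → k} (hab : (a, b) ∈ FR T) (hh : h a ≠ 0 ∨ h b ≠ 0) :
    ∃ l₀ : Fin 3 → k, l₀ ≠ 0 ∧ (∀ j, rv N l₀ ((-h b) • a + h a • b) j = 0) ∧
      ∀ l : Fin 3 → k, (∀ j, rv N l ((-h b) • a + h a • b) j = 0) → ∃ c : k, c • l₀ = l := by
  classical
  set z : Fin 5 → k := (-h b) • a + h a • b with hz
  have hhz : h z = 0 := by
    rw [hz, map_add, map_smul, map_smul, smul_eq_mul, smul_eq_mul]
    ring
  obtain ⟨hzzz, hzza, hzzb⟩ := T_span hT hab (-h b) (h a)
  rw [← hz] at hzzz hzza hzzb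
  have hz0 : z ≠ 0 := by
    intro h0
    have h1 := (LinearIndependent.pair_iff.1 hab.1) (-h b) (h a) (by rw [← hz, h0])
    rcases hh with hh | hh
    · exact hh h1.2
    · exact hh (neg_eq_zero.1 h1.1)
  have hdet : (Matrix.of fun i j => N i j z).det = 0 := by rw [← hN z hhz, hzzz]
  obtain ⟨l₀, hl₀, hl₀'⟩ := Matrix.exists_vecMul_eq_zero_iff.2 hdet
  have hl : ∀ j, rv N l₀ z j = 0 := fun j => by
    have := congrFun hl₀' j
    simpa [Matrix.vecMul, dotProduct, rv] using this
  refine ⟨l₀, hl₀, hl, fun l hlz => ?_⟩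
  by_contra hcon
  have hli : LinearIndependent k ![l₀, l] :=
    (LinearIndependent.pair_iff' hl₀).2 fun c hc => hcon ⟨c, hc⟩
  have h1 : ∀ w, h w = 0 → T z z w = 0 := fun w hw => tangent_of_two hT hN hhz hzzz hli hl hlz hw
  obtain ⟨w, -, hw⟩ := hsm z trivial hz0 hzzz
  apply hw
  rcases hh with hh | hh
  · have h2 : T z z (w - (h w / h a) • a) = 0 := h1 _ (by
      rw [map_sub, map_smul, smul_eq_mul, div_mul_cancel₀ _ hh, sub_self])
    rw [map_sub, map_smul, hzza, smul_zero, sub_zero] at h2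
    exact h2
  · have h2 : T z z (w - (h w / h b) • b) = 0 := h1 _ (by
      rw [map_sub, map_smul, smul_eq_mul, div_mul_cancel₀ _ hh, sub_self])
    rw [map_sub, map_smul, hzzb, smul_zero, sub_zero] at h2
    exact h2

theorem rv_add_smul (N : Fin 3 → Fin 3 → Dual k (Fin 5 → k)) (l : Fin 3 → k) (s t : k) (x y : Fin 5 → k) (j : Fin 3) :
    rv N l (s • x + t • y) j = s * rv N l x j + t * rv N l y j := by
  simp only [rv, map_add, map_smul, smul_eq_mul, mul_add, Finset.sum_add_distrib, Finset.mul_sum]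
  congr 1 <;> exact Finset.sum_congr rfl fun i _ => by ring

theorem rv_smul_left (N : Fin 3 → Fin 3 → Dual k (Fin 5 → k)) (l : Fin 3 → k) (c : k) (x : Fin 5 → k) (j : Fin 3) :
    rv N (c • l) x j = c * rv N l x j := by
  simp only [rv, Pi.smul_apply, smul_eq_mul, Finset.mul_sum]
  exact Finset.sum_congr rfl fun i _ => by ring

/-- The solutions of `λ N(a) + h(a) e = 0 = λ N(b) + h(b) e` form a line. -/
theorem exists_pair [CharZero k] (hT : IsSym3 T) (hsm : SmoothOn T ⊤) {h : Dual k (Fin 5 → k)}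
    {N : Fin 3 → Fin 3 → Dual k (Fin 5 → k)} (hN : ∀ x, h x = 0 → T x x x = (Matrix.of fun i j => N i j x).det)
    {a b : Fin 5 → k} (hab : (a, b) ∈ FR T) (hh : h a ≠ 0 ∨ h b ≠ 0) :
    ∃ q₀ : (Fin 3 → k) × (Fin 3 → k), q₀ ≠ 0 ∧
      ((∀ j, rv N q₀.1 a j + h a * q₀.2 j = 0) ∧ ∀ j, rv N q₀.1 b j + h b * q₀.2 j = 0) ∧
      ∀ q : (Fin 3 → k) × (Fin 3 → k), ((∀ j, rv N q.1 a j + h a * q.2 j = 0) ∧
        ∀ j, rv N q.1 b j + h b * q.2 j = 0) → ∃ c : k, c • q₀ = q := by
  obtain ⟨l₀, hl₀, hl₁, hl₂⟩ := left_ker hT hsm hN hab hh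
  simp only [rv_add_smul] at hl₁ hl₂
  -- the second component is determined by the first
  have huniq : ∀ (l : Fin 3 → k) (e e' : Fin 3 → k), ((∀ j, rv N l a j + h a * e j = 0) ∧
      ∀ j, rv N l b j + h b * e j = 0) → ((∀ j, rv N l a j + h a * e' j = 0) ∧
      ∀ j, rv N l b j + h b * e' j = 0) → e = e' := by
    rintro l e e' ⟨h1, h2⟩ ⟨h3, h4⟩
    funext j
    rcases hh with hh | hh
    · refine mul_left_cancel₀ hh ?_
      linear_combination h1 j - h3 j
    · refine mul_left_cancel₀ hh ?_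
      linear_combination h2 j - h4 j
  obtain ⟨e₀, he₀⟩ : ∃ e : Fin 3 → k, (∀ j, rv N l₀ a j + h a * e j = 0) ∧ ∀ j, rv N l₀ b j + h b * e j = 0 := by
    rcases hh with hh | hh
    · refine ⟨fun j => -(rv N l₀ a j) / h a, fun j => by field_simp; ring, fun j => ?_⟩
      field_simp
      linear_combination hl₁ j
    · refine ⟨fun j => -(rv N l₀ b j) / h b, fun j => ?_, fun j => by field_simp; ring⟩
      field_simp
      linear_combination (-1 : k) * hl₁ j
  refine ⟨(l₀, e₀), fun h0 => hl₀ (congrArg Prod.fst h0), he₀, ?_⟩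
  rintro ⟨l, e⟩ ⟨h1, h2⟩
  dsimp only at h1 h2
  obtain ⟨c, rfl⟩ := hl₂ l fun j => by linear_combination (-h b) * h1 j + h a * h2 j
  refine ⟨c, ?_⟩
  rw [Prod.smul_mk]
  congr 1
  refine huniq (c • l₀) _ _ ⟨fun j => ?_, fun j => ?_⟩ ⟨h1, h2⟩
  · rw [rv_smul_left, Pi.smul_apply, smul_eq_mul]
    linear_combination c * he₀.1 j
  · rw [rv_smul_left, Pi.smul_apply, smul_eq_mul]
    linear_combination c * he₀.2 j

theorem finrank_pair [CharZero k] (hT : IsSym3 T) (hsm : SmoothOn T ⊤) {h : Dual k (Fin 5 → k)}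
    {N : Fin 3 → Fin 3 → Dual k (Fin 5 → k)} (hN : ∀ x, h x = 0 → T x x x = (Matrix.of fun i j => N i j x).det)
    {a b : Fin 5 → k} (hab : (a, b) ∈ FR T) (hh : h a ≠ 0 ∨ h b ≠ 0) {W' : Type u} [AddCommGroup W'] [Module k W']
    (A : ((Fin 3 → k) × (Fin 3 → k)) →ₗ[k] W') (hA : ∀ q, A q = 0 ↔ ((∀ j, rv N q.1 a j + h a * q.2 j = 0) ∧
        ∀ j, rv N q.1 b j + h b * q.2 j = 0)) : finrank k ↥(LinearMap.range A) = 5 := by
  obtain ⟨q₀, hq₀, hq₁, hq₂⟩ := exists_pair hT hsm hN hab hh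
  have h1 : finrank k ↥(LinearMap.ker A) = 1 := by
    rw [finrank_eq_one_iff']
    refine ⟨⟨q₀, (hA q₀).2 hq₁⟩, fun h0 => hq₀ (congrArg Subtype.val h0), fun q => ?_⟩
    obtain ⟨c, hc⟩ := hq₂ q.1 ((hA _).1 q.2)
    exact ⟨c, Subtype.ext hc⟩
  have h2 := LinearMap.finrank_range_add_finrank_ker A
  have h3 : finrank k ((Fin 3 → k) × (Fin 3 → k)) = 6 := by simp
  omega

end K692.GoodKer
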