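import Groth.Agent.Fano.K714.ConicIrr2
import Groth.Agent.Fano.K483.LineConf
import Groth.Agent.Fano.K40.ThreeLines
import Groth.Agent.Fano.K713.PPDef
import Groth.Agent.Fano.K409.DD
import Groth.Agent.Fano.K692.GoodKer

/-!
# Existence of a good Pfaffian decomposition

* `exists_point`: a point of a smooth cubic surface on no line of the surface;
* `exists_DDh`: a smooth hyperplane section of a smooth cubic threefold is determinantal;
* `exists_indep`: a starting datum with independent `u`.
-/

set_option autoImplicit false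
universe u

namespace K692.GoodExist

open K656.Trilin K714.Surf K714.Frames K713.PP Module K692.GoodKer

variable {k : Type u} [Field k]

section General

variable {V : Type u} [AddCommGroup V] [Module k V]

/-- avoid finitely many subspaces -/
theorem exists_notMem [Infinite k] {W : Submodule k V} {S : Set (Submodule k V)} (hS : S.Finite)
    (h : ∀ U ∈ S, ¬ W ≤ U) : ∃ w ∈ W, ∀ U ∈ S, w ∉ U := by
  classical
  let s : Finset (Submodule k ↥W) := hS.toFinset.image fun U => U.comap W.subtype
  have hs : ⊤ ∉ s := by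
    intro ht
    obtain ⟨U, hU, hU'⟩ := Finset.mem_image.1 ht
    exact h U (hS.mem_toFinset.1 hU) (Submodule.comap_subtype_eq_top.1 hU')
  have h1 := Subspace.biUnion_ne_univ_of_top_notMem hs
  rw [Set.ne_univ_iff_exists_notMem] at h1
  obtain ⟨w, hw⟩ := h1
  refine ⟨w, w.2, fun U hU hwU => hw ?_⟩
  exact Set.mem_iUnion₂.2 ⟨U.comap W.subtype, Finset.mem_image.2 ⟨U, hS.mem_toFinset.2 hU, rfl⟩, hwU⟩

/-- dual forms of independent vectors -/
theorem exists_forms {ι : Type} [Fintype ι] [DecidableEq ι] {w : ι → V} (hw : LinearIndependent k w) :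
    ∃ φ : ι → Dual k V, (∀ i j, φ i (w j) = if i = j then 1 else 0) ∧
      ∀ x ∈ Submodule.span k (Set.range w), x = ∑ i, φ i x • w i := by
  let b : Basis ι k ↥(Submodule.span k (Set.range w)) := Basis.span hw
  have hb : ∀ i, ((b i : ↥(Submodule.span k (Set.range w))) : V) = w i := fun i =>
    congrArg Subtype.val (Basis.span_apply hw i)
  have h1 : ∀ j, ∃ g : Dual k V, ∀ x : ↥(Submodule.span k (Set.range w)), g (x : V) = b.coord j x := fun j => by
    obtain ⟨g, hg⟩ := LinearMap.exists_extend (b.coord j)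
    exact ⟨g, fun x => by rw [← hg]; rfl⟩
  choose g hg using h1
  refine ⟨g, fun i j => ?_, fun x hx => ?_⟩
  · rw [← hb j, hg, Basis.coord_apply, Basis.repr_self, Finsupp.single_apply]
    simp only [eq_comm]
  · have h2 := congrArg Subtype.val (b.sum_repr ⟨x, hx⟩)
    simp only [Submodule.coe_sum, Submodule.coe_smul, hb] at h2
    rw [← h2]
    refine Finset.sum_congr rfl fun i _ => ?_
    rw [h2]
    have h3 := hg i ⟨x, hx⟩
    rw [Basis.coord_apply] at h3
    rw [← h3]

end General

theorem exists_cubic_zero [IsAlgClosed k] (a b c d : k) :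
    ∃ s t : k, (s ≠ 0 ∨ t ≠ 0) ∧ a * s ^ 3 + b * s ^ 2 * t + c * s * t ^ 2 + d * t ^ 3 = 0 := by
  by_cases ha : a = 0
  · exact ⟨1, 0, Or.inl one_ne_zero, by rw [ha]; ring⟩
  · obtain ⟨s, hs⟩ := IsAlgClosed.exists_root
      (Polynomial.C a * Polynomial.X ^ 3 + Polynomial.C b * Polynomial.X ^ 2 + Polynomial.C c * Polynomial.X +
        Polynomial.C d)
      (by rw [Polynomial.degree_cubic ha]; norm_num)
    refine ⟨s, 1, Or.inr one_ne_zero, ?_⟩
    have := hs
    simp only [Polynomial.IsRoot, Polynomial.eval_add, Polynomial.eval_mul, Polynomial.eval_C,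
      Polynomial.eval_pow, Polynomial.eval_X] at this
    linear_combination this

variable {T : (Fin 5 → k) →ₗ[k] (Fin 5 → k) →ₗ[k] (Fin 5 → k) →ₗ[k] k}

/-- a point of the surface on no line of the surface -/
theorem exists_point [IsAlgClosed k] [CharZero k] (hT : IsSym3 T) {W : Submodule k (Fin 5 → k)}
    (hW : finrank k ↥W = 4) (hsm : SmoothOn T W) :
    ∃ z ∈ W, z ≠ 0 ∧ T z z z = 0 ∧ ∀ U, IsLine T U → U ≤ W → z ∉ U := by
  have hinf : Infinite k := IsAlgClosed.instInfinite
  have hfin : (insert ⊥ {U : Submodule k (Fin 5 → k) | IsLine T U ∧ U ≤ W}).Finite :=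
    (K714.ConicIrr.lines_finite hT hW hsm).insert ⊥
  set S : Set (Submodule k (Fin 5 → k)) := insert ⊥ {U | IsLine T U ∧ U ≤ W} with hS
  have hrk : ∀ U ∈ S, finrank k ↥U ≤ 2 := by
    rintro U (rfl | hU)
    · simp
    · exact hU.1.1.le
  obtain ⟨p, hpW, hp⟩ := exists_notMem hfin (W := W) fun U hU hle => by
    have h1 := Submodule.finrank_mono hle
    have h2 := hrk U hU
    omega
  obtain ⟨q, hqW, hq⟩ := exists_notMem (hfin.image fun U => U ⊔ Submodule.span k {p}) (W := W) (by
    rintro _ ⟨U, hU, rfl⟩ hle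
    have h1 := Submodule.finrank_mono hle
    dsimp only at h1
    have h2 := hrk U hU
    have h3 := Submodule.finrank_add_le_finrank_add_finrank U (Submodule.span k {p})
    have h4 := finrank_span_singleton (K := k) (v := p) (fun h0 => hp ⊥ (Set.mem_insert _ _) (by rw [h0]; simp))
    omega)
  obtain ⟨s, t, hst, h0⟩ := exists_cubic_zero (T p p p) (3 * T p p q) (3 * T p q q) (T q q q)
  have hav : ∀ U ∈ S, s • p + t • q ∉ U := by
    intro U hU hmem
    by_cases ht : t = 0
    · have hs : s ≠ 0 := hst.resolve_right (not_not.2 ht)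
      rw [ht, zero_smul, add_zero] at hmem
      exact hp U hU ((Submodule.smul_mem_iff _ hs).1 hmem)
    · refine hq _ ⟨U, hU, rfl⟩ ?_
      have h1 : q = t⁻¹ • (s • p + t • q) + (-(t⁻¹ * s)) • p := by
        rw [smul_add, smul_smul, smul_smul, inv_mul_cancel₀ ht, one_smul, neg_smul]
        abel
      rw [h1]
      exact Submodule.add_mem_sup (Submodule.smul_mem _ _ hmem)
        (Submodule.smul_mem _ _ (Submodule.mem_span_singleton_self p))
  refine ⟨s • p + t • q, W.add_mem (W.smul_mem _ hpW) (W.smul_mem _ hqW), ?_, ?_, ?_⟩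
  · intro hz
    exact hav ⊥ (Set.mem_insert _ _) (by rw [hz]; simp)
  · rw [hT.cube_smul_add_smul]
    linear_combination h0
  · exact fun U hU hUW => hav U (Or.inr ⟨hU, hUW⟩)

/-- a smooth hyperplane section is determinantal -/
theorem exists_DDh [IsAlgClosed k] [CharZero k] (hT : IsSym3 T) (hsm : SmoothOn T ⊤) :
    ∃ p ∈ DDh T, SmoothOn T (LinearMap.ker p.1) := by
  classical
  have hV : finrank k (Fin 5 → k) = 5 := by simp
  obtain ⟨⟨a₀, b₀⟩, hab₀⟩ := (frames_irr hT hsm).1
  have hl := (isLine_span_iff hT (p := (a₀, b₀)) hab₀.1).2 hab₀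
  obtain ⟨h, hh, -, hs⟩ := K714.Bertini.exists_smooth_section hT hV hsm hl.1
  have hker : finrank k ↥(LinearMap.ker h) = 4 := by
    have h1 := LinearMap.finrank_range_add_finrank_ker h
    have h2 : LinearMap.range h = ⊤ := LinearMap.range_eq_top.2 (LinearMap.surjective hh)
    rw [h2, finrank_top, finrank_self, finrank_fin_fun] at h1
    omega
  obtain ⟨M, N, -, hM, hN, -, hMW, hNW, -, hMN, -, -⟩ := K483.LineConf.exists_three hT hker hs
  -- bases of the two lines
  let bM : Basis (Fin 2) k ↥M := finBasisOfFinrankEq k ↥M hM.1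
  let bN : Basis (Fin 2) k ↥N := finBasisOfFinrankEq k ↥N hN.1
  let m : Fin 2 → Fin 5 → k := fun i => (bM i : Fin 5 → k)
  let n : Fin 2 → Fin 5 → k := fun i => (bN i : Fin 5 → k)
  have hmi : LinearIndependent k m := bM.linearIndependent.map' M.subtype (Submodule.ker_subtype _)
  have hni : LinearIndependent k n := bN.linearIndependent.map' N.subtype (Submodule.ker_subtype _)
  have hms : Submodule.span k (Set.range m) = M := by
    have := congrArg (Submodule.map M.subtype) bM.span_eq
    rw [Submodule.map_span, Submodule.map_top, Submodule.range_subtype, ← Set.range_comp] at this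
    exact this
  have hns : Submodule.span k (Set.range n) = N := by
    have := congrArg (Submodule.map N.subtype) bN.span_eq
    rw [Submodule.map_span, Submodule.map_top, Submodule.range_subtype, ← Set.range_comp] at this
    exact this
  have hmn : LinearIndependent k (Sum.elim m n) :=
    hmi.sum_type hni (by rw [hms, hns]; exact disjoint_iff.2 hMN)
  obtain ⟨φ, hφ, hx⟩ := exists_forms hmn
  have hW : Submodule.span k (Set.range (Sum.elim m n)) = LinearMap.ker h := by
    rw [Set.Sum.elim_range, Submodule.span_union, hms, hns]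
    refine Submodule.eq_of_le_of_finrank_eq (sup_le hMW hNW) ?_
    have h1 := Submodule.finrank_sup_add_finrank_inf_eq M N
    rw [hMN, finrank_bot, hM.1, hN.1] at h1
    omega
  -- the forms
  let P : Fin 2 → Fin 2 → E k := fun i j => (3 : k) • T (m i) (n j)
  let v : Fin 2 → E k := fun i => φ (Sum.inl i)
  let y : Fin 2 → E k := fun i => φ (Sum.inr i)
  have key : ∀ x, h x = 0 → T x x x = ∑ i, ∑ j, v i x * P i j x * y j x := by
    intro x hxh
    have h1 : x ∈ Submodule.span k (Set.range (Sum.elim m n)) := by rw [hW]; exact hxh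
    have h2 := hx x h1
    rw [Fintype.sum_sum_type] at h2
    simp only [Sum.elim_inl, Sum.elim_inr] at h2
    set p : Fin 5 → k := ∑ i, φ (Sum.inl i) x • m i with hp
    set q : Fin 5 → k := ∑ i, φ (Sum.inr i) x • n i with hq
    have hpM : p ∈ M := Submodule.sum_mem _ fun i _ => Submodule.smul_mem _ _ (bM i).2
    have hqN : q ∈ N := Submodule.sum_mem _ fun i _ => Submodule.smul_mem _ _ (bN i).2
    have h3 : T x x x = 3 * T p q x := by
      have h4 := hM.2 p hpM
      have h5 := hN.2 q hqN
      have h6 : T x x x = T (p + q) (p + q) (p + q) := by rw [← h2]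
      have h7 : T p q x = T p q (p + q) := by rw [← h2]
      rw [h6, h7, hT.cube_add, h4, h5, map_add, hT.s23 p q p]
      ring
    rw [h3, hp, hq]
    simp only [map_sum, LinearMap.sum_apply, map_smul, LinearMap.smul_apply, smul_eq_mul, v, P, y,
      Finset.mul_sum]
    rw [Finset.sum_comm]
    refine Finset.sum_congr rfl fun i _ => Finset.sum_congr rfl fun j _ => ?_
    ring
  refine ⟨(h, K409.DD.N0 v P y), ⟨hh, fun x hx => ?_⟩, hs⟩
  rw [K409.DD.det_N0]
  exact key x hx

/-- a row vector in the kernel makes the determinant vanish -/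
theorem det_eq_zero {N : Fin 3 → Fin 3 → E k} {l : Fin 3 → k} (hl : l ≠ 0) {x : Fin 5 → k}
    (hx : ∀ j, rv N l x j = 0) : (Matrix.of fun i j => N i j x).det = 0 := by
  refine Matrix.exists_vecMul_eq_zero_iff.1 ⟨l, hl, ?_⟩
  funext j
  have := hx j
  simpa [Matrix.vecMul, dotProduct, rv] using this

/-- the forms `λ N + h e` -/
def uf (h : E k) (N : Fin 3 → Fin 3 → E k) (l e : Fin 3 → k) (j : Fin 3) : E k := (∑ i, l i • N i j) + e j • h

theorem uf_apply (h : E k) (N : Fin 3 → Fin 3 → E k) (l e : Fin 3 → k) (j : Fin 3) (x : Fin 5 → k) :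
    uf h N l e j x = rv N l x j + h x * e j := by
  simp only [uf, rv, LinearMap.add_apply, LinearMap.sum_apply, LinearMap.smul_apply, smul_eq_mul]
  ring

/-- a plane (two-dimensional subspace) through `z` inside the common zeros of dependent forms -/
theorem exists_sub {h : E k} {w : Fin 3 → E k} (hw : ¬ LinearIndependent k w) {z : Fin 5 → k} (hz0 : z ≠ 0)
    (hz : h z = 0) (hwz : ∀ j, w j z = 0) :
    ∃ U : Submodule k (Fin 5 → k), finrank k ↥U = 2 ∧ z ∈ U ∧ ∀ x ∈ U, h x = 0 ∧ ∀ j, w j x = 0 := by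
  obtain ⟨g, hg, i₀, hi₀⟩ := Fintype.not_linearIndependent_iff.1 hw
  let Φ : (Fin 5 → k) →ₗ[k] (k × (Fin 3 → k)) := LinearMap.prod h (LinearMap.pi w)
  have hΦ : LinearMap.range Φ ≠ ⊤ := by
    intro ht
    obtain ⟨x, hx⟩ := (LinearMap.range_eq_top.1 ht) (0, Pi.single i₀ 1)
    have h1 : ∀ j, w j x = (Pi.single i₀ 1 : Fin 3 → k) j := fun j => congrFun (congrArg Prod.snd hx) j
    have h2 := LinearMap.congr_fun hg x
    simp only [LinearMap.sum_apply, LinearMap.smul_apply, smul_eq_mul, LinearMap.zero_apply, h1] at h2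
    rw [Finset.sum_eq_single i₀ (fun j _ hj => by rw [Pi.single_eq_of_ne hj, mul_zero])
      (fun hn => absurd (Finset.mem_univ _) hn), Pi.single_eq_same, mul_one] at h2
    exact hi₀ h2
  have h1 := Submodule.finrank_lt hΦ
  have h2 : finrank k (k × (Fin 3 → k)) = 4 := by simp
  have h3 := LinearMap.finrank_range_add_finrank_ker Φ
  have h4 : finrank k (Fin 5 → k) = 5 := by simp
  have hker : ∀ x, x ∈ LinearMap.ker Φ ↔ h x = 0 ∧ ∀ j, w j x = 0 := by
    intro x
    rw [LinearMap.mem_ker]
    constructor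
    · intro hx
      exact ⟨congrArg Prod.fst hx, fun j => congrFun (congrArg Prod.snd hx) j⟩
    · rintro ⟨ha, hb⟩
      exact Prod.ext ha (funext hb)
  obtain ⟨y, hy, hyz⟩ : ∃ y ∈ LinearMap.ker Φ, y ∉ Submodule.span k {z} := by
    by_contra hcon
    push Not at hcon
    have h5 : LinearMap.ker Φ ≤ Submodule.span k {z} := fun y hy => hcon y hy
    have h6 := Submodule.finrank_mono h5
    rw [finrank_span_singleton hz0] at h6
    omega
  have hli : LinearIndependent k ![z, y] :=
    (LinearIndependent.pair_iff' hz0).2 fun c hc => hyz (hc ▸ Submodule.smul_mem _ _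
      (Submodule.mem_span_singleton_self z))
  have hfin := finrank_span_eq_card hli
  rw [Matrix.range_cons, Matrix.range_cons, Matrix.range_empty, Set.union_empty,
    Set.singleton_union, Fintype.card_fin] at hfin
  refine ⟨Submodule.span k {z, y}, hfin, Submodule.subset_span (by simp), fun x hx => (hker x).1 ?_⟩
  have hle : Submodule.span k {z, y} ≤ LinearMap.ker Φ := by
    rw [Submodule.span_le]
    rintro _ (rfl | rfl)
    · exact (hker _).2 ⟨hz, hwz⟩
    · exact hy
  exact hle hx

/-- **A starting datum.** -/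
theorem exists_indep [IsAlgClosed k] [CharZero k] (hT : IsSym3 T) (hsm : SmoothOn T ⊤) :
    ∃ (h : E k) (N : Fin 3 → Fin 3 → E k) (a b : Fin 5 → k) (l e : Fin 3 → k), (h, N) ∈ DDh T ∧ (a, b) ∈ FR T ∧
      (h a ≠ 0 ∨ h b ≠ 0) ∧ l ≠ 0 ∧ (∀ j, rv N l a j + h a * e j = 0) ∧ (∀ j, rv N l b j + h b * e j = 0) ∧
      LinearIndependent k (uf h N l e) := by
  obtain ⟨⟨h, N⟩, ⟨hh, hN⟩, hs⟩ := exists_DDh hT hsm
  dsimp only at hh hN hs
  have hker : finrank k ↥(LinearMap.ker h) = 4 := by
    have h1 := LinearMap.finrank_range_add_finrank_ker h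
    have h2 : LinearMap.range h = ⊤ := LinearMap.range_eq_top.2 (LinearMap.surjective hh)
    rw [h2, finrank_top, finrank_self, finrank_fin_fun] at h1
    omega
  obtain ⟨z, hz, hz0, hzz, hzU⟩ := exists_point hT hker hs
  obtain ⟨p, hp⟩ := K40.ThreeLines.exists_line hz0 hzz
  have hhz : h z = 0 := hz
  have hhp : h p ≠ 0 := by
    intro hhp
    have hl := (isLine_span_iff hT (p := (z, p)) hp.1).2 hp
    refine hzU _ hl ?_ (Submodule.subset_span (by simp))
    rw [Submodule.span_le]
    rintro _ (rfl | rfl)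
    · exact hhz
    · exact hhp
  obtain ⟨l, hl, hl1, -⟩ := left_ker hT hsm hN hp (Or.inr hhp)
  have hl2 : ∀ j, rv N l z j = 0 := by
    intro j
    have h1 := hl1 j
    rw [rv_add_smul, hhz, zero_mul, add_zero] at h1
    exact (mul_eq_zero.1 h1).resolve_left (neg_ne_zero.2 hhp)
  refine ⟨h, N, z, p, l, fun j => -(rv N l p j) / h p, ⟨hh, hN⟩, hp, Or.inr hhp, hl, fun j => ?_, fun j => ?_, ?_⟩
  · rw [hl2, hhz, zero_mul, add_zero]
  · field_simp
    ring
  · by_contra hcon
    obtain ⟨U, hU, hzU', hU0⟩ := exists_sub hcon hz0 hhz fun j => by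
      rw [uf_apply, hl2, hhz, zero_mul, add_zero]
    refine hzU U ⟨hU, fun x hx => ?_⟩ (fun x hx => (hU0 x hx).1) hzU'
    obtain ⟨h1, h2⟩ := hU0 x hx
    rw [hN x h1]
    refine det_eq_zero hl fun j => ?_
    have h3 := h2 j
    rwa [uf_apply, h1, zero_mul, add_zero] at h3

end K692.GoodExist
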