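import Groth.Agent.Fano.K409.DD
import Groth.Agent.Fano.K692.GoodKer
import Mathlib.LinearAlgebra.FreeModule.Finite.Basic

/-!
# Polynomial maps through bilinear maps
-/

set_option autoImplicit false
set_option maxSynthPendingDepth 3
universe u

namespace K692.GoodPoly

open K656.Trilin Module LefPen Groth.Agent.Lefpen.H703.ZOpen K692.GoodLin K692.GoodKer

variable {k : Type u} [Field k]

variable {X A B C : Type u} [AddCommGroup X] [Module k X] [AddCommGroup A] [Module k A] [AddCommGroup B] [Module k B]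
  [AddCommGroup C] [Module k C]

/-- polynomial maps through bilinear maps -/
theorem pm_bilin [FiniteDimensional k A] (β : A →ₗ[k] B →ₗ[k] C) {φ : X → A} {ψ : X → B} (hφ : IsPolyMap k φ)
    (hψ : IsPolyMap k ψ) : IsPolyMap k (fun x => β (φ x) (ψ x)) := by
  intro l
  let b := finBasis k A
  have h : (fun x => l (β (φ x) (ψ x))) = fun x => ∑ i, b.coord i (φ x) * (l.comp (β (b i))) (ψ x) := by
    funext x
    conv_lhs => rw [← b.sum_repr (φ x)]
    simp only [map_sum, LinearMap.sum_apply, map_smul, LinearMap.smul_apply, smul_eq_mul, LinearMap.comp_apply,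
      Basis.coord_apply]
  rw [h]
  exact pf_sum _ fun i _ => pf_mul (hφ (b.coord i)) (hψ _)

theorem pm_lin (L : A →ₗ[k] B) {φ : X → A} (hφ : IsPolyMap k φ) : IsPolyMap k (fun x => L (φ x)) :=
  fun l => hφ (l.comp L)

theorem pm_proj {n : ℕ} {φ : X → Fin n → A} (hφ : IsPolyMap k φ) (i : Fin n) : IsPolyMap k (fun x => φ x i) :=
  pm_lin (LinearMap.proj (R := k) (φ := fun _ : Fin n => A) i) hφ

theorem pf_proj {n : ℕ} {φ : X → Fin n → k} (hφ : IsPolyMap k φ) (i : Fin n) : IsPolyFun k (fun x => φ x i) :=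
  hφ (LinearMap.proj i)

/-- evaluation of a form -/
theorem pf_app {n : ℕ} {φ : X → Dual k (Fin n → k)} {ψ : X → Fin n → k} (hφ : IsPolyMap k φ) (hψ : IsPolyMap k ψ) :
    IsPolyFun k (fun x => φ x (ψ x)) :=
  isPolyMap_iff_isPolyFun.1 (pm_bilin (LinearMap.id : Dual k (Fin n → k) →ₗ[k] (Fin n → k) →ₗ[k] k) hφ hψ)

/-- trilinear forms -/
abbrev Tri (k : Type u) [Field k] : Type u := (Fin 5 → k) →ₗ[k] (Fin 5 → k) →ₗ[k] (Fin 5 → k) →ₗ[k] k

/-- `smulRight` as a bilinear map -/
def srl1 : Dual k (Fin 5 → k) →ₗ[k] Dual k (Fin 5 → k) →ₗ[k] ((Fin 5 → k) →ₗ[k] Dual k (Fin 5 → k)) :=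
  LinearMap.smulRightₗ

def srl2 : Dual k (Fin 5 → k) →ₗ[k] ((Fin 5 → k) →ₗ[k] Dual k (Fin 5 → k)) →ₗ[k] Tri k :=
  LinearMap.smulRightₗ

theorem pm_rk1 {f g h : X → Dual k (Fin 5 → k)} (hf : IsPolyMap k f) (hg : IsPolyMap k g) (hh : IsPolyMap k h) :
    IsPolyMap k (fun x => rk1 (f x) (g x) (h x)) := by
  have h1 := pm_bilin srl1 hg hh
  exact pm_bilin srl2 hf h1

/-- the two exchanges as linear maps -/
def flL : Tri k →ₗ[k] Tri k where
  toFun := fl
  map_add' x y := by ext; simp [fl]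
  map_smul' c x := by ext; simp [fl]

def flipL : Tri k →ₗ[k] Tri k where
  toFun D := D.flip
  map_add' x y := by ext; simp
  map_smul' c x := by ext; simp

theorem pm_symm3 {φ : X → Tri k} (hφ : IsPolyMap k φ) : IsPolyMap k (fun x => symm3 (φ x)) := by
  have h1 : IsPolyMap k (fun x => (φ x).flip) := pm_lin flipL hφ
  have h2 : IsPolyMap k (fun x => fl (φ x)) := pm_lin flL hφ
  have h3 : IsPolyMap k (fun x => (fl (φ x)).flip) := pm_lin flipL h2
  have h4 : IsPolyMap k (fun x => fl (φ x).flip) := pm_lin flL h1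
  have h5 : IsPolyMap k (fun x => (fl (φ x).flip).flip) := pm_lin flipL h4
  exact pm_smul (isPolyFun_const _) (pm_add (pm_add (pm_add (pm_add (pm_add hφ h1) h2) h3) h4) h5)

theorem pm_detT {u v c : X → Fin 3 → Dual k (Fin 5 → k)} (hu : IsPolyMap k u) (hv : IsPolyMap k v)
    (hc : IsPolyMap k c) : IsPolyMap k (fun x => detT (u x) (v x) (c x)) := by
  have hu' := fun i => pm_proj hu i
  have hv' := fun i => pm_proj hv i
  have hc' := fun i => pm_proj hc i
  refine pm_add (pm_add (pm_add (pm_add (pm_add ?_ ?_) ?_) ?_) ?_) ?_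
  · exact pm_rk1 (hu' _) (hv' _) (hc' _)
  · exact pm_smul (isPolyFun_const _) (pm_rk1 (hu' _) (hv' _) (hc' _))
  · exact pm_smul (isPolyFun_const _) (pm_rk1 (hu' _) (hv' _) (hc' _))
  · exact pm_rk1 (hu' _) (hv' _) (hc' _)
  · exact pm_rk1 (hu' _) (hv' _) (hc' _)
  · exact pm_smul (isPolyFun_const _) (pm_rk1 (hu' _) (hv' _) (hc' _))

/-- independence is an open condition -/
theorem zo_linInd {V : Type u} [AddCommGroup V] [Module k V] [FiniteDimensional k V] {φ : X → Fin 3 → Dual k V}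
    (hφ : IsPolyMap k φ) : IsZOpen k {x | LinearIndependent k (φ x)} := by
  intro x hx
  obtain ⟨f, hf⟩ := exists_dual hx
  refine ⟨fun y => (Matrix.of fun i j => φ y i (f j)).det, ?_, ?_, ?_⟩
  · exact isPolyFun_det fun i j => hφ ((Dual.eval k V (f j)).comp
      (LinearMap.proj (R := k) (φ := fun _ : Fin 3 => Dual k V) i))
  · have : (Matrix.of fun i j => φ x i (f j)) = 1 := by
      ext i j
      rw [Matrix.of_apply, hf, Matrix.one_apply]
    simp only [this, Matrix.det_one]
    exact one_ne_zero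
  · intro y hy
    change LinearIndependent k (φ y)
    rw [Fintype.linearIndependent_iff]
    intro g hg
    have h1 : Matrix.vecMul g (Matrix.of fun i j => φ y i (f j)) = 0 := by
      funext j
      have := LinearMap.congr_fun hg (f j)
      simpa [Matrix.vecMul, dotProduct] using this
    exact congrFun (Matrix.eq_zero_of_vecMul_eq_zero hy h1)

end K692.GoodPoly
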