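import Groth.Agent.Fano.K692.GoodExist
import Groth.Agent.Fano.K692.GoodPoly
import Groth.Agent.Fano.K461.Top

/-!
# The good part of `Sol13` is irreducible

`irr_good`: if `DDh T` (determinantal representations of hyperplane sections) and the space of frames of lines are
irreducible then so is the set of decompositions `T = h (u · d) + det (u; v; c)` with `h` not in the span of `u`.

Route: `(h, N) ∈ DDh`, a line `⟨a, b⟩` not in `{h = 0}`, the solutions `(λ, e)` of `λ N + h e = 0` on the line (a line of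
solutions by smoothness), completion of `λ` to a basis; the image is the set of `(h, u, v, c)` with `det (u; v; c) = T` on
`{h = 0}` and `u = 0` on the line. On the open subset where `u` is independent the `d` form an affine space of constant
dimension.
-/

set_option autoImplicit false
set_option maxSynthPendingDepth 3
universe u

namespace K692.Good13

open K656.Trilin K714.Surf K714.Frames K714.Irr K713.PP Module LefPen Groth.Agent.Lefpen.H703.ZOpen K692.GoodLin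
  K692.GoodKer K692.GoodPoly K692.GoodExist

variable {k : Type u} [Field k]

/-- `(h, N), (a, b)` -/
abbrev X0 (k : Type u) [Field k] : Type u := (E k × (Fin 3 → Fin 3 → E k)) × ((Fin 5 → k) × (Fin 5 → k))

/-- `(λ, e)` -/
abbrev L3 (k : Type u) [Field k] : Type u := (Fin 3 → k) × (Fin 3 → k)

/-- `(h, u, v, c)` -/
abbrev Y4 (k : Type u) [Field k] : Type u := E k × (Fin 3 → E k) × (Fin 3 → E k) × (Fin 3 → E k)

/-- the linear system on the line -/
def A1 (p : X0 k) : L3 k →ₗ[k] L3 k where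
  toFun q := (fun j => rv p.1.2 q.1 p.2.1 j + p.1.1 p.2.1 * q.2 j, fun j => rv p.1.2 q.1 p.2.2 j + p.1.1 p.2.2 * q.2 j)
  map_add' x y := by
    refine Prod.ext (funext fun j => ?_) (funext fun j => ?_)
    · simp only [rv, Prod.fst_add, Prod.snd_add, Pi.add_apply, Fin.sum_univ_three]
      ring
    · simp only [rv, Prod.fst_add, Prod.snd_add, Pi.add_apply, Fin.sum_univ_three]
      ring
  map_smul' c x := by
    refine Prod.ext (funext fun j => ?_) (funext fun j => ?_)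
    · simp only [rv, Prod.smul_fst, Prod.smul_snd, Pi.smul_apply, Fin.sum_univ_three, smul_eq_mul, RingHom.id_apply]
      ring
    · simp only [rv, Prod.smul_fst, Prod.smul_snd, Pi.smul_apply, Fin.sum_univ_three, smul_eq_mul, RingHom.id_apply]
      ring

theorem A1_eq_zero (p : X0 k) (q : L3 k) : A1 p q = 0 ↔ (∀ j, rv p.1.2 q.1 p.2.1 j + p.1.1 p.2.1 * q.2 j = 0) ∧
    ∀ j, rv p.1.2 q.1 p.2.2 j + p.1.1 p.2.2 * q.2 j = 0 := by
  constructor
  · intro h
    exact ⟨fun j => congrFun (congrArg Prod.fst h) j, fun j => congrFun (congrArg Prod.snd h) j⟩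
  · rintro ⟨h1, h2⟩
    exact Prod.ext (funext h1) (funext h2)

theorem pf_rv {X : Type u} [AddCommGroup X] [Module k X] {N : X → Fin 3 → Fin 3 → E k} {l : X → Fin 3 → k}
    {a : X → Fin 5 → k} (hN : IsPolyMap k N) (hl : IsPolyMap k l) (ha : IsPolyMap k a) (j : Fin 3) :
    IsPolyFun k (fun x => rv (N x) (l x) (a x) j) :=
  pf_sum _ fun i _ => pf_mul (pf_proj hl i) (pf_app (pm_proj (pm_proj hN i) j) ha)

theorem pm_A1 (w : L3 k) : IsPolyMap k (fun p : X0 k => A1 p w) := by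
  have h1 : IsPolyMap k (fun p : X0 k => p.1.1) := pm_comp isPolyMap_fst isPolyMap_fst
  have hN : IsPolyMap k (fun p : X0 k => p.1.2) := pm_comp isPolyMap_snd isPolyMap_fst
  have h2 : IsPolyMap k (fun p : X0 k => p.2.1) := pm_comp isPolyMap_fst isPolyMap_snd
  have h3 : IsPolyMap k (fun p : X0 k => p.2.2) := pm_comp isPolyMap_snd isPolyMap_snd
  exact pm_prodMk (isPolyMap_pi.2 fun j => pf_add (pf_rv hN (isPolyMap_const _) h2 j)
      (pf_mul (pf_app h1 h2) (isPolyFun_const _)))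
    (isPolyMap_pi.2 fun j => pf_add (pf_rv hN (isPolyMap_const _) h3 j)
      (pf_mul (pf_app h1 h3) (isPolyFun_const _)))

variable {T : (Fin 5 → k) →ₗ[k] (Fin 5 → k) →ₗ[k] (Fin 5 → k) →ₗ[k] k}

/-- the base -/
def B0 (T : (Fin 5 → k) →ₗ[k] (Fin 5 → k) →ₗ[k] (Fin 5 → k) →ₗ[k] k) : Set (X0 k) :=
  {p | p.1 ∈ DDh T ∧ p.2 ∈ FR T} ∩ {p | p.1.1 p.2.1 ≠ 0 ∨ p.1.1 p.2.2 ≠ 0}

theorem irr_B0 [IsAlgClosed k] [CharZero k] (hT : IsSym3 T) (hsm : SmoothOn T ⊤) (hD : Irr k (DDh T))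
    (hF : Irr k (FR T)) : Irr k (B0 T) := by
  refine (hD.prod hF).inter_open ?_ ?_
  · have h1 : IsPolyMap k (fun p : X0 k => p.1.1) := pm_comp isPolyMap_fst isPolyMap_fst
    have h2 : IsPolyMap k (fun p : X0 k => p.2.1) := pm_comp isPolyMap_fst isPolyMap_snd
    have h3 : IsPolyMap k (fun p : X0 k => p.2.2) := pm_comp isPolyMap_snd isPolyMap_snd
    exact zo_union (isZOpen_basic (pf_app h1 h2)) (isZOpen_basic (pf_app h1 h3))
  · obtain ⟨h, N, a, b, l, e, h1, h2, h3, -⟩ := exists_indep hT hsm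
    exact ⟨((h, N), (a, b)), ⟨h1, h2⟩, h3⟩

/-- with the solutions of the linear system -/
def B1 (T : (Fin 5 → k) →ₗ[k] (Fin 5 → k) →ₗ[k] (Fin 5 → k) →ₗ[k] k) : Set (X0 k × L3 k) :=
  {p | p.1 ∈ B0 T ∧ A1 p.1 p.2 = 0}

theorem irr_B1 [IsAlgClosed k] [CharZero k] (hT : IsSym3 T) (hsm : SmoothOn T ⊤) (hD : Irr k (DDh T))
    (hF : Irr k (FR T)) : Irr k (B1 T) := by
  have hinf : Infinite k := IsAlgClosed.instInfinite
  exact (irr_B0 hT hsm hD hF).of_linear A1 pm_A1 (fun _ => 0) (isPolyMap_const _) 5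
    (fun b hb => finrank_pair hT hsm hb.1.1.2 hb.1.2 hb.2 _ (A1_eq_zero b)) (fun b _ => Submodule.zero_mem _)

/-- `(μ, ν), (e', e'')` -/
abbrev Par (k : Type u) [Field k] : Type u := L3 k × L3 k

/-- with completions -/
def B3 (T : (Fin 5 → k) →ₗ[k] (Fin 5 → k) →ₗ[k] (Fin 5 → k) →ₗ[k] k) : Set ((X0 k × L3 k) × Par k) :=
  {p | p.1 ∈ B1 T}

/-- the determinant -/
def dl (p : (X0 k × L3 k) × Par k) : k := (Matrix.of ![p.1.2.1, p.2.1.1, p.2.1.2]).det

def Q3 (p : (X0 k × L3 k) × Par k) : Y4 k :=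
  (p.1.1.1.1, uf p.1.1.1.1 p.1.1.1.2 p.1.2.1 p.1.2.2, uf p.1.1.1.1 p.1.1.1.2 p.2.1.1 p.2.2.1,
    fun j => p.2.2.2 j • p.1.1.1.1)

def P3 (p : (X0 k × L3 k) × Par k) : Y4 k :=
  (0, 0, 0, fun j => ∑ i, p.2.1.2 i • p.1.1.1.2 i j)

theorem pm_uf {X : Type u} [AddCommGroup X] [Module k X] {h : X → E k} {N : X → Fin 3 → Fin 3 → E k}
    {l e : X → Fin 3 → k} (hh : IsPolyMap k h) (hN : IsPolyMap k N) (hl : IsPolyMap k l) (he : IsPolyMap k e) :
    IsPolyMap k (fun x => uf (h x) (N x) (l x) (e x)) :=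
  K409.DD.pm_pi fun j => pm_add (K409.DD.pm_sum _ fun i _ => pm_smul (pf_proj hl i) (pm_proj (pm_proj hN i) j))
    (pm_smul (pf_proj he j) hh)

section Coord

theorem pm_h : IsPolyMap k (fun p : (X0 k × L3 k) × Par k => p.1.1.1.1) :=
  pm_comp (ψ := fun p : (X0 k × L3 k) × Par k => p.1.1) (pm_comp isPolyMap_fst isPolyMap_fst)
    (pm_comp isPolyMap_fst isPolyMap_fst)

theorem pm_N : IsPolyMap k (fun p : (X0 k × L3 k) × Par k => p.1.1.1.2) :=
  pm_comp (ψ := fun p : (X0 k × L3 k) × Par k => p.1.1) (pm_comp isPolyMap_snd isPolyMap_fst)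
    (pm_comp isPolyMap_fst isPolyMap_fst)

theorem pm_l : IsPolyMap k (fun p : (X0 k × L3 k) × Par k => p.1.2.1) :=
  pm_comp (ψ := fun p : (X0 k × L3 k) × Par k => p.1.2) isPolyMap_fst (pm_comp isPolyMap_snd isPolyMap_fst)

theorem pm_e : IsPolyMap k (fun p : (X0 k × L3 k) × Par k => p.1.2.2) :=
  pm_comp (ψ := fun p : (X0 k × L3 k) × Par k => p.1.2) isPolyMap_snd (pm_comp isPolyMap_snd isPolyMap_fst)

theorem pm_m : IsPolyMap k (fun p : (X0 k × L3 k) × Par k => p.2.1.1) :=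
  pm_comp (ψ := fun p : (X0 k × L3 k) × Par k => p.2.1) isPolyMap_fst (pm_comp isPolyMap_fst isPolyMap_snd)

theorem pm_n : IsPolyMap k (fun p : (X0 k × L3 k) × Par k => p.2.1.2) :=
  pm_comp (ψ := fun p : (X0 k × L3 k) × Par k => p.2.1) isPolyMap_snd (pm_comp isPolyMap_fst isPolyMap_snd)

theorem pm_e' : IsPolyMap k (fun p : (X0 k × L3 k) × Par k => p.2.2.1) :=
  pm_comp (ψ := fun p : (X0 k × L3 k) × Par k => p.2.2) isPolyMap_fst (pm_comp isPolyMap_snd isPolyMap_snd)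

theorem pm_e'' : IsPolyMap k (fun p : (X0 k × L3 k) × Par k => p.2.2.2) :=
  pm_comp (ψ := fun p : (X0 k × L3 k) × Par k => p.2.2) isPolyMap_snd (pm_comp isPolyMap_snd isPolyMap_snd)

end Coord

theorem pf_dl : IsPolyFun k (dl (k := k)) := by
  refine isPolyFun_det fun i j => ?_
  fin_cases i
  · exact pf_proj pm_l j
  · exact pf_proj pm_m j
  · exact pf_proj pm_n j

theorem pm_Q3 : IsPolyMap k (Q3 (k := k)) :=
  pm_prodMk pm_h (pm_prodMk (pm_uf pm_h pm_N pm_l pm_e) (pm_prodMk (pm_uf pm_h pm_N pm_m pm_e')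
    (K409.DD.pm_pi fun j => pm_smul (pf_proj pm_e'' j) pm_h)))

theorem pm_P3 : IsPolyMap k (P3 (k := k)) :=
  pm_prodMk (isPolyMap_const _) (pm_prodMk (isPolyMap_const _) (pm_prodMk (isPolyMap_const _)
    (K409.DD.pm_pi fun j => K409.DD.pm_sum _ fun i _ => pm_smul (pf_proj pm_n i) (pm_proj (pm_proj pm_N i) j))))

/-- the set of `(h, u, v, c)` -/
def G4 (T : (Fin 5 → k) →ₗ[k] (Fin 5 → k) →ₗ[k] (Fin 5 → k) →ₗ[k] k) : Set (Y4 k) :=
  {q | (∀ y, q.1 y = 0 → T y y y = det3 (fun i => q.2.1 i y) (fun i => q.2.2.1 i y) (fun i => q.2.2.2 i y)) ∧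
    ∃ a b, (a, b) ∈ FR T ∧ (q.1 a ≠ 0 ∨ q.1 b ≠ 0) ∧ ∀ i, q.2.1 i a = 0 ∧ q.2.1 i b = 0}

theorem det3_rv (N : Fin 3 → Fin 3 → E k) (l m n : Fin 3 → k) (x : Fin 5 → k) :
    det3 (rv N l x) (rv N m x) (rv N n x) = (Matrix.of ![l, m, n]).det * (Matrix.of fun i j => N i j x).det := by
  rw [← Matrix.det_mul, mul_rows, det_rows]
  rfl

theorem mem_G4 {p : (X0 k × L3 k) × Par k} (hp : p ∈ B3 T) (hd : dl p ≠ 0) : Q3 p + (dl p)⁻¹ • P3 p ∈ G4 T := by
  obtain ⟨⟨⟨⟨h, N⟩, a, b⟩, l, e⟩, ⟨m, n⟩, e', e''⟩ := p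
  obtain ⟨⟨⟨⟨hh, hN⟩, hab⟩, hhab⟩, hA⟩ := hp
  rw [A1_eq_zero] at hA
  dsimp only at hh hN hab hhab hA
  have hu : (Q3 ((((h, N), (a, b)), (l, e)), ((m, n), (e', e''))) +
      (dl ((((h, N), (a, b)), (l, e)), ((m, n), (e', e''))))⁻¹ •
        P3 ((((h, N), (a, b)), (l, e)), ((m, n), (e', e'')))) =
      ((h, uf h N l e, uf h N m e', fun j => e'' j • h + ((Matrix.of ![l, m, n]).det)⁻¹ • ∑ i, n i • N i j) : Y4 k) := by
    refine Prod.ext ?_ (Prod.ext ?_ (Prod.ext ?_ ?_))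
    · change h + (_ : k) • (0 : E k) = h
      rw [smul_zero, add_zero]
    · change uf h N l e + (_ : k) • (0 : Fin 3 → E k) = uf h N l e
      rw [smul_zero, add_zero]
    · change uf h N m e' + (_ : k) • (0 : Fin 3 → E k) = uf h N m e'
      rw [smul_zero, add_zero]
    · rfl
  rw [hu]
  have hd' : (Matrix.of ![l, m, n]).det ≠ 0 := hd
  refine ⟨fun y hy => ?_, a, b, hab, hhab, fun i => ⟨?_, ?_⟩⟩
  · dsimp only at hy ⊢
    have e1 : (fun i => uf h N l e i y) = rv N l y := funext fun i => by rw [uf_apply, hy, zero_mul, add_zero]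
    have e2 : (fun i => uf h N m e' i y) = rv N m y := funext fun i => by rw [uf_apply, hy, zero_mul, add_zero]
    have e3 : (fun i => (e'' i • h + ((Matrix.of ![l, m, n]).det)⁻¹ • ∑ i_1, n i_1 • N i_1 i) y) =
        fun i => ((Matrix.of ![l, m, n]).det)⁻¹ * rv N n y i := funext fun i => by
      simp only [LinearMap.add_apply, LinearMap.smul_apply, LinearMap.sum_apply, hy, smul_eq_mul, mul_zero, zero_add,
        rv]
    rw [e1, e2, e3, hN y hy]
    have h1 := det3_rv N l m n y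
    have h2 : det3 (rv N l y) (rv N m y) (fun i => ((Matrix.of ![l, m, n]).det)⁻¹ * rv N n y i) =
        ((Matrix.of ![l, m, n]).det)⁻¹ * det3 (rv N l y) (rv N m y) (rv N n y) := by
      simp only [det3]
      ring
    rw [h2, h1, inv_mul_cancel_left₀ hd']
  · dsimp only
    rw [uf_apply]
    exact hA.1 i
  · dsimp only
    rw [uf_apply]
    exact hA.2 i

theorem exists_of_mem_G4 {q : Y4 k} (hq : q ∈ G4 T) : ∃ p ∈ B3 T, dl p ≠ 0 ∧ Q3 p + (dl p)⁻¹ • P3 p = q := by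
  obtain ⟨h, u, v, c⟩ := q
  obtain ⟨hG, a, b, hab, hhab, hu⟩ := hq
  dsimp only at hG hab hhab hu
  have hh : h ≠ 0 := by
    rintro rfl
    rcases hhab with h1 | h1
    · exact h1 rfl
    · exact h1 rfl
  have hrv : ∀ (w : Fin 3) (x : Fin 5 → k) (j : Fin 3), rv ![u, v, c] (Pi.single w 1) x j = (![u, v, c] w j) x := by
    intro w x j
    simp only [rv]
    rw [Finset.sum_eq_single w (fun i _ hi => by rw [Pi.single_eq_of_ne hi, zero_mul])
      (fun hn => absurd (Finset.mem_univ _) hn), Pi.single_eq_same, one_mul]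
  have hd1 : (Matrix.of ![(Pi.single 0 1 : Fin 3 → k), Pi.single 1 1, Pi.single 2 1]).det = 1 := by
    rw [Matrix.det_fin_three]
    simp
  refine ⟨((((h, ![u, v, c]), (a, b)), (Pi.single 0 1, 0)), ((Pi.single 1 1, Pi.single 2 1), (0, 0))), ?_, ?_, ?_⟩
  · refine ⟨⟨⟨⟨hh, fun y hy => ?_⟩, hab⟩, hhab⟩, (A1_eq_zero _ _).2 ⟨fun j => ?_, fun j => ?_⟩⟩
    · rw [hG y hy, det3_eq_det (Matrix.of fun i j => (![u, v, c] i j) y) |>.symm]
      rfl
    · dsimp only
      rw [hrv, Pi.zero_apply, mul_zero, add_zero]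
      exact (hu j).1
    · dsimp only
      rw [hrv, Pi.zero_apply, mul_zero, add_zero]
      exact (hu j).2
  · change (Matrix.of ![(Pi.single 0 1 : Fin 3 → k), Pi.single 1 1, Pi.single 2 1]).det ≠ 0
    rw [hd1]
    exact one_ne_zero
  · have hdl : dl (((((h, ![u, v, c]), (a, b)), (Pi.single 0 1, 0)), ((Pi.single 1 1, Pi.single 2 1), (0, 0))) :
        (X0 k × L3 k) × Par k) = 1 := hd1
    rw [hdl, inv_one, one_smul]
    have huf : ∀ w : Fin 3, uf h ![u, v, c] (Pi.single w 1) 0 = ![u, v, c] w := by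
      intro w
      funext j
      refine LinearMap.ext fun x => ?_
      rw [uf_apply, hrv, Pi.zero_apply, mul_zero, add_zero]
    refine Prod.ext ?_ (Prod.ext ?_ (Prod.ext ?_ ?_))
    · exact add_zero h
    · change uf h ![u, v, c] (Pi.single 0 1) 0 + 0 = u
      rw [add_zero, huf]
      rfl
    · change uf h ![u, v, c] (Pi.single 1 1) 0 + 0 = v
      rw [add_zero, huf]
      rfl
    · change (fun j => (0 : k) • h) + (fun j => ∑ i, (Pi.single 2 1 : Fin 3 → k) i • (![u, v, c] : Fin 3 → Fin 3 → E k) i j) = c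
      funext j
      refine LinearMap.ext fun x => ?_
      have := hrv 2 x j
      simp only [rv] at this
      simp only [Pi.add_apply, zero_smul, zero_add, LinearMap.sum_apply, LinearMap.smul_apply, smul_eq_mul]
      exact this

/-- completion of a nonzero vector to a matrix with nonzero determinant -/
theorem exists_completion {l : Fin 3 → k} (hl : l ≠ 0) : ∃ m n : Fin 3 → k, (Matrix.of ![l, m, n]).det ≠ 0 := by
  classical
  have h1 : LinearIndependent k ![l] := LinearIndependent.of_subsingleton 0 hl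
  obtain ⟨m, hm⟩ := exists_linearIndependent_snoc_of_lt_finrank h1 (by simp)
  obtain ⟨n, hn⟩ := exists_linearIndependent_snoc_of_lt_finrank hm (by simp)
  refine ⟨m, n, ?_⟩
  have he : (Fin.snoc (α := fun _ => Fin 3 → k) (Fin.snoc (α := fun _ => Fin 3 → k) ![l] m) n : Fin 3 → Fin 3 → k) =
      ![l, m, n] := by
    funext i
    fin_cases i <;> rfl
  rw [he] at hn
  have h2 : LinearIndependent k (Matrix.of ![l, m, n]).row := hn
  exact ((Matrix.isUnit_iff_isUnit_det _).1 (Matrix.linearIndependent_rows_iff_isUnit.1 h2)).ne_zero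

theorem irr_G4 [IsAlgClosed k] [CharZero k] (hT : IsSym3 T) (hsm : SmoothOn T ⊤) (hD : Irr k (DDh T))
    (hF : Irr k (FR T)) : Irr k (G4 T) := by
  have hinf : Infinite k := IsAlgClosed.instInfinite
  have h3 : Irr k (B3 T) := (irr_B1 hT hsm hD hF).prod_univ
  obtain ⟨h, N, a, b, l, e, h1, h2, hh, hl, ha, hb, -⟩ := exists_indep hT hsm
  obtain ⟨m, n, hmn⟩ := exists_completion hl
  have h4 := K461.Top.irr_rat h3 pf_dl pm_Q3 pm_P3
    ⟨((((h, N), (a, b)), (l, e)), ((m, n), (0, 0))), ⟨⟨⟨h1, h2⟩, hh⟩, (A1_eq_zero _ _).2 ⟨ha, hb⟩⟩, hmn⟩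
  have h5 : (fun v => Q3 v + (dl v)⁻¹ • P3 v) '' (B3 T ∩ {v | dl v ≠ 0}) = G4 T := by
    ext q
    constructor
    · rintro ⟨p, ⟨hp, hd⟩, rfl⟩
      exact mem_G4 hp hd
    · intro hq
      obtain ⟨p, hp, hd, he⟩ := exists_of_mem_G4 hq
      exact ⟨p, ⟨hp, hd⟩, he⟩
  rwa [h5] at h4

/-- with independent `u` -/
def G4i (T : (Fin 5 → k) →ₗ[k] (Fin 5 → k) →ₗ[k] (Fin 5 → k) →ₗ[k] k) : Set (Y4 k) :=
  G4 T ∩ {q | LinearIndependent k q.2.1}

theorem irr_G4i [IsAlgClosed k] [CharZero k] (hT : IsSym3 T) (hsm : SmoothOn T ⊤) (hD : Irr k (DDh T))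
    (hF : Irr k (FR T)) : Irr k (G4i T) := by
  refine (irr_G4 hT hsm hD hF).inter_open ?_ ?_
  · exact zo_linInd (φ := fun q : Y4 k => q.2.1) (pm_comp isPolyMap_fst isPolyMap_snd)
  · obtain ⟨h, N, a, b, l, e, h1, h2, hh, hl, ha, hb, hi⟩ := exists_indep hT hsm
    obtain ⟨m, n, hmn⟩ := exists_completion hl
    refine ⟨_, mem_G4 (p := ((((h, N), (a, b)), (l, e)), ((m, n), (0, 0))))
      ⟨⟨⟨h1, h2⟩, hh⟩, (A1_eq_zero _ _).2 ⟨ha, hb⟩⟩ hmn, ?_⟩
    have h3 : (Q3 ((((h, N), (a, b)), (l, e)), ((m, n), (0, 0))) +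
      (dl ((((h, N), (a, b)), (l, e)), ((m, n), (0, 0))))⁻¹ •
        P3 ((((h, N), (a, b)), (l, e)), ((m, n), (0, 0))) : Y4 k).2.1 = uf h N l e := by
      change uf h N l e + (_ : k) • (0 : Fin 3 → E k) = uf h N l e
      rw [smul_zero, add_zero]
    change LinearIndependent k _
    rw [h3]
    exact hi

/-! ### the last forms -/

/-- the linear map `d ↦ h (u · d)` -/
noncomputable def A5 (q : Y4 k) : (Fin 3 → E k) →ₗ[k] Tri k where
  toFun d := symm3 (rk1 q.1 (q.2.1 0) (d 0) + rk1 q.1 (q.2.1 1) (d 1) + rk1 q.1 (q.2.1 2) (d 2))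
  map_add' x y := by
    refine LinearMap.ext fun a => LinearMap.ext fun b => LinearMap.ext fun c => ?_
    simp only [symm3_apply, LinearMap.add_apply, rk1_apply, Pi.add_apply]
    ring
  map_smul' r x := by
    refine LinearMap.ext fun a => LinearMap.ext fun b => LinearMap.ext fun c => ?_
    simp only [symm3_apply, LinearMap.add_apply, LinearMap.smul_apply, rk1_apply, Pi.smul_apply, RingHom.id_apply,
      smul_eq_mul]
    ring

theorem A5_diag [CharZero k] (q : Y4 k) (d : Fin 3 → E k) (x : Fin 5 → k) :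
    A5 q d x x x = q.1 x * ∑ i, q.2.1 i x * d i x := by
  change symm3 _ x x x = _
  rw [symm3_diag]
  simp only [LinearMap.add_apply, rk1_apply, Fin.sum_univ_three]
  ring

theorem isSym3_A5 (q : Y4 k) (d : Fin 3 → E k) : IsSym3 (A5 q d) := isSym3_symm3 _

/-- the right hand side -/
noncomputable def y5 (T : (Fin 5 → k) →ₗ[k] (Fin 5 → k) →ₗ[k] (Fin 5 → k) →ₗ[k] k) (q : Y4 k) : Tri k :=
  T + (-1 : k) • symm3 (detT q.2.1 q.2.2.1 q.2.2.2)

theorem isSym3_y5 (hT : IsSym3 T) (q : Y4 k) : IsSym3 (y5 T q) := by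
  have h := isSym3_symm3 (detT q.2.1 q.2.2.1 q.2.2.2)
  constructor
  · intro a b c
    simp only [y5, LinearMap.add_apply, LinearMap.smul_apply]
    rw [hT.s12 a b c, h.s12 a b c]
  · intro a b c
    simp only [y5, LinearMap.add_apply, LinearMap.smul_apply]
    rw [hT.s23 a b c, h.s23 a b c]

theorem y5_diag [CharZero k] (q : Y4 k) (x : Fin 5 → k) : y5 T q x x x =
    T x x x - det3 (fun i => q.2.1 i x) (fun i => q.2.2.1 i x) (fun i => q.2.2.2 i x) := by
  simp only [y5, LinearMap.add_apply, LinearMap.smul_apply, smul_eq_mul]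
  rw [symm3_diag, detT_diag]
  simp only [det3]
  ring

theorem pm_A5 (w : Fin 3 → E k) : IsPolyMap k (fun q : Y4 k => A5 q w) := by
  have h1 : IsPolyMap k (fun q : Y4 k => q.1) := isPolyMap_fst
  have h2 : IsPolyMap k (fun q : Y4 k => q.2.1) := pm_comp isPolyMap_fst isPolyMap_snd
  exact pm_symm3 (pm_add (pm_add (pm_rk1 h1 (pm_proj h2 _) (isPolyMap_const _))
    (pm_rk1 h1 (pm_proj h2 _) (isPolyMap_const _))) (pm_rk1 h1 (pm_proj h2 _) (isPolyMap_const _)))

theorem pm_y5 : IsPolyMap k (fun q : Y4 k => y5 T q) := by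
  have h2 : IsPolyMap k (fun q : Y4 k => q.2.1) := pm_comp isPolyMap_fst isPolyMap_snd
  have h3 : IsPolyMap k (fun q : Y4 k => q.2.2.1) :=
    pm_comp (ψ := fun q : Y4 k => q.2.2) isPolyMap_fst (pm_comp isPolyMap_snd isPolyMap_snd)
  have h4 : IsPolyMap k (fun q : Y4 k => q.2.2.2) :=
    pm_comp (ψ := fun q : Y4 k => q.2.2) isPolyMap_snd (pm_comp isPolyMap_snd isPolyMap_snd)
  exact pm_add (isPolyMap_const _) (pm_smul (isPolyFun_const _) (pm_symm3 (pm_detT h2 h3 h4)))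

/-- `h` is not a zero divisor -/
theorem quad_zero [CharZero k] {h : E k} (hh : h ≠ 0) {u d : Fin 3 → E k}
    (h0 : ∀ x, h x * ∑ i, u i x * d i x = 0) (x : Fin 5 → k) : ∑ i, u i x * d i x = 0 := by
  obtain ⟨p, hp⟩ := LinearMap.surjective hh 1
  have key : ∀ t : k, t ≠ 0 → ∑ i, u i ((x - h x • p) + t • p) * d i ((x - h x • p) + t • p) = 0 := by
    intro t ht
    have h1 := h0 ((x - h x • p) + t • p)
    have h2 : h ((x - h x • p) + t • p) = t := by
      rw [map_add, map_sub, map_smul, map_smul, hp, smul_eq_mul, smul_eq_mul, mul_one, mul_one, sub_self, zero_add]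
    rw [h2] at h1
    exact (mul_eq_zero.1 h1).resolve_left ht
  have k1 := key 1 one_ne_zero
  have k2 := key (-1) (neg_ne_zero.2 one_ne_zero)
  have k3 := key 2 two_ne_zero
  have h3 : (3 : k) ≠ 0 := by norm_num
  have h6 : (6 : k) ≠ 0 := by norm_num
  have hxx : x = (x - h x • p) + h x • p := by abel
  set y : Fin 5 → k := x - h x • p
  rw [hxx]
  generalize h x = t
  simp only [Fin.sum_univ_three, map_add, map_smul, smul_eq_mul] at k1 k2 k3 ⊢
  -- α + β t + γ t²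
  have e : ∀ t : k, (u 0 y + t * u 0 p) * (d 0 y + t * d 0 p) + (u 1 y + t * u 1 p) * (d 1 y + t * d 1 p) +
      (u 2 y + t * u 2 p) * (d 2 y + t * d 2 p) = (u 0 y * d 0 y + u 1 y * d 1 y + u 2 y * d 2 y) +
      (u 0 y * d 0 p + u 0 p * d 0 y + u 1 y * d 1 p + u 1 p * d 1 y + u 2 y * d 2 p + u 2 p * d 2 y) * t +
      (u 0 p * d 0 p + u 1 p * d 1 p + u 2 p * d 2 p) * t ^ 2 := by
    intro t
    ring
  rw [e] at k1 k2 k3 ⊢
  set α := u 0 y * d 0 y + u 1 y * d 1 y + u 2 y * d 2 y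
  set β := u 0 y * d 0 p + u 0 p * d 0 y + u 1 y * d 1 p + u 1 p * d 1 y + u 2 y * d 2 p + u 2 p * d 2 y
  set γ := u 0 p * d 0 p + u 1 p * d 1 p + u 2 p * d 2 p
  have hβ : β = 0 := by
    have h2 : (2 : k) ≠ 0 := two_ne_zero
    refine mul_left_cancel₀ h2 ?_
    linear_combination k1 - k2
  have hγ : γ = 0 := by
    refine mul_left_cancel₀ h3 ?_
    rw [hβ] at k1 k3
    linear_combination k3 - k1
  have hα : α = 0 := by
    rw [hβ, hγ] at k1
    linear_combination k1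
  rw [hα, hβ, hγ]
  ring

end K692.Good13
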